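import Cfsg.Agent.ARS.OutA
import Cfsg.Agent.NPQ.FldC
import Cfsg.Agent.K.OutExc
import Cfsg.Agent.S2156
import Cfsg.Agent.S2160

/-!
S4185: `Out` of the untwisted exceptional groups.

`comm_le_diag`: `O = Out`, `D̄` = range of `mk' ∘ diagAut` (normal, `out_structure`), `ρ : O → Perm` with
`ker ρ = D̄ ⊔ F̄` and range `graphSet` of order `≤ 2` (see `K.tame_out_chev`).  Modulo `D̄` the field classes
are central (`exists_aut_decomp`: every class is `d γ σ`; field automorphisms commute with each other and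
with graph automorphisms, S2160).  So `O ⧸ D̄` is cyclic (order `≤ 2`) modulo its centre, hence
commutative; i.e. `commutator O ≤ D̄`.  Elementwise: `θ₁ = d₁ γ₁ σ₁`, `θ₂ = d₂ γ₂ σ₂`; if `ρ θ₁ = 1` then
`θ₁ ∈ D̄ F̄`; if both `ρ θ_i ≠ 1` then `θ₁ θ₂⁻¹ ∈ ker ρ`.
`|D̄| ≤ 1, 1, 3, 2, 1` by `card_diagOut_le`, `card_ker_tor`.  `E₆`: `|D̄| ≤ 3` and a subgroup of order `2`
that is normal is central ... simply: `|D̄| ≤ gcd(3,q-1)`, `|D̄| ≠ 2` since `c^3` is trivial in `Out`, or: if
`|D̄| ≤ 2` then `D̄` is central; alternatively `card_Out` gives `|D̄| = gcd` exactly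
(`|O| = |ker ρ| |graphSet|`, `|ker ρ| ≤ |D̄| |F̄|`).  `E₇`: `graphSet` trivial, `O = D̄ F̄`, `D̄` normal of order
`≤ 2` is central, `F̄` cyclic.  `E₈`: `isCyclic_out_of_field`, non-inner as in `fldAll_chev` (NPQ/FldC).
`out2_E7`: `out2_of_field` with `fieldAut`, `m = 2` (S2124); for `σ` of order `2`, `q = q₀²`,
`|E₇(q₀)| ∣ |Fix|` as in `fldAll_chev`, and `s` (odd) divides `q₀`, `q₀^8 - 1` or `q₀^12 - 1`, so
`s ∣ |E₇(q₀)|` (S1064); `fld_fix`.
-/

set_option autoImplicit false
set_option linter.unusedSectionVars false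

namespace Cfsg.Agent.ARS

open Cfsg Cfsg.Agent.NPQ Cfsg.Lie

variable {F : Type} [Field F] [Fintype F]

open Cfsg.Agent.Chev Cfsg.Agent.K Subgroup

section Gen

variable {D : ChevalleyDatum} [Good D]

variable (D F) in
/-- the classes of diagonal automorphisms -/
noncomputable abbrev coD : Subgroup (Out (D.group F)) :=
  ((QuotientGroup.mk' (Inn (D.group F))).comp (diagAut D F)).range

theorem co_dvd (T : RootTable D) :
    Nat.card (coD F D) ∣ Nat.card {c : Fin D.rank → Fˣ // ∀ j, ∏ i, c i ^ cm D i j = 1} := by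
  let κ : (Fin D.rank → Fˣ) →* (Fin D.rank → Fˣ) := MonoidHom.mk' (fun e j => ∏ i, e i ^ cm D i j)
    fun a b => funext fun j => by simp [mul_zpow, Finset.prod_mul_distrib]
  have h1 : κ.range ≤ ((QuotientGroup.mk' (Inn (D.group F))).comp (diagAut D F)).ker := by
    rintro _ ⟨e, rfl⟩
    exact (QuotientGroup.eq_one_iff _).2 ((KSG.diagAut_mem_inn_iff T _).2 ⟨e, fun _ => rfl⟩)
  rw [← index_ker]
  refine (index_dvd_of_le h1).trans (dvd_of_eq ?_)
  have h2 := κ.range.index_mul_card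
  have h3 := κ.ker.index_mul_card
  rw [index_ker, mul_comm, ← h2] at h3
  rw [← Nat.eq_of_mul_eq_mul_right Nat.card_pos h3]
  exact Nat.card_congr (Equiv.subtypeEquivRight fun c => funext_iff)

theorem co_mk [(coD F D).Normal] (g : D.group F) (c : Nd D → Fˣ) (γ φ : MulAut (D.group F)) :
    (((MulAut.conj g * (diagAut D F c * γ * φ) : MulAut _) : Out (D.group F)) : Out (D.group F) ⧸ coD F D) =
      ((γ * φ : MulAut _) : Out (D.group F)) := by
  rw [QuotientGroup.mk_mul, mk_conj, one_mul, mul_assoc, QuotientGroup.mk_mul, QuotientGroup.mk_mul,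
    show (((diagAut D F c : MulAut _) : Out (D.group F)) : Out (D.group F) ⧸ coD F D) = 1 from
      (QuotientGroup.eq_one_iff _).2 ⟨c, rfl⟩, one_mul]

theorem co_le (hD : D ∈ [chevG2, chevB2, chevD4, chevF4, chevE6, chevE7, chevE8])
    {π₀ : Equiv.Perm (Fin D.rank)} (hs : ∀ π, D.IsDiagramSymmetry π → π = 1 ∨ π = π₀) :
    commutator (Out (D.group F)) ≤ coD F D := by
  obtain ⟨T⟩ := exists_rootTable hD
  haveI : (coD F D).Normal := (out_structure (F := F) hD).1
  haveI := isCyclic_ringEquiv F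
  refine commutator_le.2 ?_
  intro a _ b _
  obtain ⟨θ, rfl⟩ := QuotientGroup.mk_surjective a
  obtain ⟨θ', rfl⟩ := QuotientGroup.mk_surjective b
  obtain ⟨g, c, π, γ, σ, h1, h2, rfl⟩ := exists_aut_decomp hD θ
  obtain ⟨g', c', π', γ', σ', h1', h2', rfl⟩ := exists_aut_decomp hD θ'
  have e1 : Commute γ γ' := by
    rcases hs π h1 with rfl | rfl
    · rw [h2.unique T isGraph_one]; exact Commute.one_left _
    rcases hs π' h1' with rfl | rfl
    · rw [h2'.unique T isGraph_one]; exact Commute.one_right _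
    · rw [h2.unique T h2']
  have e2 : Commute (γ * fieldAut D F σ) (γ' * fieldAut D F σ') :=
    (e1.mul_right (Commute.symm (h2.fieldAut_comm T σ'))).mul_left
      (Commute.mul_right (h2'.fieldAut_comm T σ)
        (Commute.map (IsCyclic.isMulCommutative.1.1 σ σ') (fieldAut D F)))
  rw [← QuotientGroup.eq_one_iff, ← QuotientGroup.mk'_apply, map_commutatorElement,
    commutatorElement_eq_one_iff_commute]
  have := (e2.map (QuotientGroup.mk' (Inn (D.group F)))).map (QuotientGroup.mk' (coD F D))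
  simp only [QuotientGroup.mk'_apply] at this
  simp only [QuotientGroup.mk'_apply]
  rw [co_mk g c, co_mk g' c']
  exact this

theorem co_inj (T : RootTable D) (σ : RingAut F) (hσ : fieldAut D F σ ∈ Inn (D.group F)) : σ = 1 := by
  obtain ⟨c, -, e⟩ := KSG.exists_diag_of_mk_eq T (θ := fieldAut D F σ) (θ' := 1) (stabUV_fieldAut σ)
    (one_mem _) ((QuotientGroup.eq_one_iff _).2 hσ)
  have k : ∀ t, σ t = c ⟨0, T.rank_pos⟩ * t := fun t =>
    (isND_xC T).x_inj isSt_xC.toIsSt0 (T.simple_lt ⟨0, T.rank_pos⟩) (by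
      rw [← fieldAut_xC, e, mul_one, diagAut_simple])
  have k1 := k 1
  rw [map_one, mul_one] at k1
  exact RingEquiv.ext fun t => by rw [k, ← k1, one_mul]; rfl

theorem co_fix (σ : RingAut F) :
    Nat.card (D.group (KSG.fixF σ)) ∣ Nat.card (Fix (fieldAut D F σ)) := by
  refine Subgroup.card_dvd_of_injective ((fieldHom D (KSG.fixF σ).subtype).codRestrict
    (Fix (fieldAut D F σ)) fun g => ?_) fun a b hab => fieldHom_injective _ (congrArg Subtype.val hab)
  rw [mem_Fix, fieldAut_apply, fieldHom_comp]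
  congr 2
  ext x
  exact x.2

end Gen

attribute [local instance] goodG2 goodF4 goodE6 goodE7 goodE8

theorem comm_out_G2 : IsMulCommutative (Out (chevG2.group F)) := by
  have h := co_dvd (F := F) rootTableG2
  rw [card_ker_tor rfl (p := (chevG2, 1)) (by simp), Nat.dvd_one, card_eq_one] at h
  exact (commutator_eq_bot_iff _).1 (le_bot_iff.1 (h ▸ co_le (by simp) sym_G2))

theorem comm_out_F4 : IsMulCommutative (Out (chevF4.group F)) := by
  have h := co_dvd (F := F) rootTableF4
  rw [card_ker_tor rfl (p := (chevF4, 1)) (by simp), Nat.dvd_one, card_eq_one] at h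
  exact (commutator_eq_bot_iff _).1 (le_bot_iff.1 (h ▸ co_le (by simp) sym_F4))

theorem card_comm_out_E6 : Nat.card (commutator (Out (chevE6.group F))) ∣ 3 := by
  have h := co_dvd (F := F) rootTableE6
  rw [card_ker_tor rfl (p := (chevE6, Nat.gcd 3 (Fintype.card F - 1))) (by simp)] at h
  exact (card_dvd_of_le (co_le (by simp) sym_E6)).trans (h.trans (Nat.gcd_dvd_left _ _))

theorem comm_out_E7 : IsMulCommutative (Out (chevE7.group F)) := by
  have h := co_dvd (F := F) rootTableE7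
  rw [card_ker_tor rfl (p := (chevE7, Nat.gcd 2 (Fintype.card F - 1))) (by simp)] at h
  haveI : (coD F chevE7).Normal := (out_structure (F := F) (by simp)).1
  haveI := isCyclic_ringEquiv F
  haveI : IsCyclic (Out (chevE7.group F) ⧸ coD F chevE7) := isCyclic_of_surjective
    ((QuotientGroup.mk' _).comp ((QuotientGroup.mk' (Inn _)).comp (fieldAut chevE7 F))) (by
      rintro ⟨⟨θ⟩⟩
      obtain ⟨g, c, π, γ, σ, h1, h2, rfl⟩ := exists_aut_decomp (D := chevE7) (by simp) θ
      obtain rfl := sym_E7 π h1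
      obtain rfl := h2.unique rootTableE7 isGraph_one
      exact ⟨σ, ((co_mk g c 1 _).trans (by rw [one_mul]; rfl)).symm⟩)
  refine comm_of_proj (QuotientGroup.mk' (coD F chevE7)) ?_
  rw [QuotientGroup.ker_mk']
  exact h.trans (Nat.gcd_dvd_left _ _)

theorem cyclic_out_E8 : IsCyclic (Out (chevE8.group F)) := by
  obtain ⟨p, f, _, _, hF, hf⟩ := exists_card_pow F
  haveI := isCyclic_ringEquiv F
  exact isCyclic_out_of_field (Γ := RingAut F) (fieldAut chevE8 F) (co_inj rootTableE8)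
    ((S2125.result p f hF).trans hf.symm)

theorem out2_E7 {s q : ℕ} (hq : Fintype.card F = q) (hs : s.Prime) (h2 : s ≠ 2)
    (h : s ∣ q ∨ s ∣ q ^ 4 - 1 ∨ s ∣ q ^ 6 - 1) : Out2 (chevE7.group F) s := by
  obtain ⟨p, f, _, _, hF, hf⟩ := exists_card_pow F
  refine out2_of_field (Γ := RingAut F) (m := 2) (fieldAut chevE7 F) (co_inj rootTableE7) ?_ (by decide)
    fun σ hσ => fld_fix hs (Dvd.dvd.trans ?_ (co_fix σ))
  · rw [S2124.result p f hF, hf]
    exact Nat.mul_dvd_mul_right (Nat.gcd_dvd_left _ _) _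
  have := Fintype.ofFinite (KSG.fixF σ)
  have e := KSG.card_fixF_pow σ
  rw [hσ, Nat.card_eq_fintype_card, Nat.card_eq_fintype_card, hq] at e
  have o := S1064.result (F := KSG.fixF σ) rfl
  refine (hs.dvd_mul.1 (Dvd.dvd.trans ?_ o.symm.dvd)).resolve_left fun k =>
    h2 ((Nat.prime_dvd_prime_iff_eq hs Nat.prime_two).1 (k.trans (Nat.gcd_dvd_left _ _)))
  rw [← e, ← pow_mul, ← pow_mul] at h
  rcases h with h | h | h
  · iterate 7 refine Dvd.dvd.mul_right ?_ _
    exact h.trans (pow_dvd_pow _ (by norm_num))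
  · iterate 4 refine Dvd.dvd.mul_right ?_ _
    exact h.mul_left _
  · iterate 2 refine Dvd.dvd.mul_right ?_ _
    exact h.mul_left _

end Cfsg.Agent.ARS
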