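import Cfsg.Agent.ARS.OutA
import Cfsg.Agent.ARS.GL1
import Cfsg.Agent.NPQ.L3

/-!
S4185: `K = L₃(q)`, `q = p^f`, `d = gcd(3, q-1)`; `φ` from S2601 (commutative target, kernel of order `d`).
Element orders `q - 1` and `p (q-1)/d` exist (S2476), use `adj_of_orderOf`.  For `s` odd, `s ∤ q`,
`¬ Cy K s`: `Cy.quot`, `two_le_lin` give `2 e ≤ 3`, `e = 1` (`one_le_ord`), `s ∣ q - 1`.
* `FB` (`s` odd): `s = p`: `p (q-1)/d` is even.  `s ∣ q - 1`, `q` odd: `q - 1`.  `p = 2`, `s ≠ 3`: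
  `p (q-1)/d`.  `s = 3`: `out2_of_field` with the field automorphisms and `m = 2 d` as in `fldAll_PSL`
  (NPQ/FldL); they fix the image of the permutation matrix `!![0,0,1;1,0,0;0,1,0]` of order `3` (or: the
  fixed subgroup of the template has order divisible by `|L₃(q₀)|`, `fld_fix`).
* `d = 1`: `φ` injective, `lf_of_comm`.  `d = 3`: `lf_of_three` (`commutator ≤ ker φ`,
  `Abelianization.commutator_subset_ker`).  `s ≠ p`: `s ∣ q - 1` (also `s = 2`), order `q - 1`.  `s = p`: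
  `sm_PSL3` gives `Pr K p 3`; exclude `Ab K p` (`not_ab_PSL3`: the upper unitriangular matrices form a
  subgroup with `g^(p²) = 1 + (g-1)^(p²) = 1`; the images of `1 + E₀₁`, `1 + E₁₂` do not commute as their
  commutator `1 + E₀₂` is not scalar).
-/

set_option autoImplicit false
set_option linter.unusedSectionVars false

namespace Cfsg.Agent.ARS

open Cfsg Cfsg.Agent.NPQ Matrix

/-- A unitriangular matrix. -/
def l3uu {F : Type} [Field F] (a b c : F) : SpecialLinearGroup (Fin 3) F :=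
  ⟨!![1, a, b; 0, 1, c; 0, 0, 1], by simp [det_fin_three]⟩

theorem l3uu_mul {F : Type} [Field F] (a b c a' b' c' : F) :
    l3uu a b c * l3uu a' b' c' = l3uu (a + a') (b + b' + a * c') (c + c') := by
  refine Subtype.ext ((Matrix.SpecialLinearGroup.coe_mul _ _).trans ?_)
  ext i j
  fin_cases i <;> fin_cases j <;> simp [l3uu, Matrix.mul_apply, Fin.sum_univ_three] <;> ring

theorem l3uu_zero {F : Type} [Field F] : l3uu (0 : F) 0 0 = 1 := by
  ext i j
  fin_cases i <;> fin_cases j <;> simp [l3uu]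

theorem l3uu_pow {F : Type} [Field F] (a b c : F) (n : ℕ) :
    ∃ x, l3uu a b c ^ n = l3uu (n * a) (n * b + x * a) (n * c) := by
  induction n with
  | zero => exact ⟨0, by simp [l3uu_zero]⟩
  | succ n ih =>
    obtain ⟨x, hx⟩ := ih
    refine ⟨x + n * c, ?_⟩
    rw [pow_succ, hx, l3uu_mul]
    congr 1 <;> push_cast <;> ring

theorem l3_dvd {F : Type} [Field F] [Fintype F] {a : ℕ} (ha : a.Prime)
    (h : a = 2 ∨ a = 3 ∨ a ∣ Fintype.card F) :
    a ∣ Nat.card (ProjectiveSpecialLinearGroup (Fin 3) F) := by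
  obtain ⟨-, -, x, hx, -⟩ := L3.fix (F := F) ha (Class.card_SL2 (F := F) ▸ dvd_of_small h) 1
  exact hx ▸ orderOf_dvd_natCard x

open Cfsg.Agent.K KSG KSG.Graph in
theorem l3_out2 {F : Type} [Field F] [Fintype F] :
    Out2 (ProjectiveSpecialLinearGroup (Fin 3) F) 3 := by
  obtain ⟨p, hp'⟩ := CharP.exists F
  have hp := CharP.char_is_prime F p
  have := Fact.mk hp
  obtain ⟨f, hf, hF⟩ := UL.card_eq_pow F p hp
  have hn' : 2 ≤ Fintype.card (Fin 3) := by simp
  refine out2_of_field ((psiL (Fin 3) F).comp (SemidirectProduct.inr.comp (MonoidHom.inl _ _)))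
    (fun σ h => ?_) (m := 2 * Nat.gcd 3 (p ^ f - 1)) ?_ ?_ fun σ _ => ?_
  · obtain ⟨π, h4, -, h5⟩ := exists_projL3 (F := F) (ι := Fin 3) (by simp)
    exact congrArg Prod.fst ((h4 _).symm.trans (h5.ge (inn_le_range_iotaL h)))
  · rw [(card_ringAut F hF).1]
    obtain ⟨π, h4, -, h5⟩ := S2601.result hf hF (le_refl 3)
    rw [card_eq_of_proj h4, h5, Nat.card_congr Multiplicative.toAdd, Nat.card_prod, Nat.card_zmod,
      Nat.card_zmod]
    exact Dvd.intro 1 (by ring)
  · rcases (Nat.dvd_prime Nat.prime_three).1 (Nat.gcd_dvd_left 3 (p ^ f - 1)) with e | e <;>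
      rw [e] <;> norm_num
  have h4 : ∀ a : SpecialLinearGroup (Fin 3) (fixF σ),
      psiL (Fin 3) F (SemidirectProduct.inr (σ, 1))
        (QuotientGroup.mk (SpecialLinearGroup.map (fixF σ).subtype a)) =
        QuotientGroup.mk (SpecialLinearGroup.map (fixF σ).subtype a) := fun a =>
    (conj_mem_centralizer_iff (S2686.center_eq_bot (by norm_num)) _ _).1 (by
      rw [← psiL_toGL, show SpecialLinearGroup.toGL (SpecialLinearGroup.map (fixF σ).subtype a) =
        GeneralLinearGroup.map (n := Fin 3) (fixF σ).subtype (SpecialLinearGroup.toGL a) from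
        Units.ext rfl]
      exact (field_centralizer_L (F := F) hn' σ).1 (SpecialLinearGroup.toGL a))
  obtain ⟨-, h8⟩ := solv_of_inj (SpecialLinearGroup.map (n := Fin 3) (fixF σ).subtype)
    (fun a b h => Subtype.ext
    (Matrix.map_injective (fixF σ).subtype_injective (congrArg Subtype.val h))) h4
  have := Fintype.ofFinite (fixF σ)
  exact fld_fix Nat.prime_three ((l3_dvd Nat.prime_three (.inr (.inl rfl))).trans h8)

theorem not_ab_PSL3 {F : Type} [Field F] [Fintype F] {p : ℕ} (hp : p.Prime) (h : p ∣ Fintype.card F) :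
    ¬ Ab (ProjectiveSpecialLinearGroup (Fin 3) F) p := by
  intro hA
  have h0 : (p : F) = 0 := by
    obtain ⟨r, hr, n, hr', e⟩ := FiniteField.card' F
    rw [(Nat.prime_dvd_prime_iff_eq hp hr').1 (hp.dvd_of_dvd_pow (e ▸ h))]
    exact CharP.cast_eq_zero F r
  let U : Subgroup (SpecialLinearGroup (Fin 3) F) :=
    { carrier := {g | ∃ a b c, g = l3uu a b c}
      one_mem' := ⟨0, 0, 0, l3uu_zero.symm⟩
      mul_mem' := by
        rintro _ _ ⟨a, b, c, rfl⟩ ⟨a', b', c', rfl⟩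
        exact ⟨_, _, _, l3uu_mul ..⟩
      inv_mem' := by
        rintro _ ⟨a, b, c, rfl⟩
        refine ⟨-a, a * c - b, -c, inv_eq_of_mul_eq_one_right ?_⟩
        rw [l3uu_mul, ← l3uu_zero]
        congr 1 <;> ring }
  have hU : IsPGroup p U := by
    rintro ⟨_, a, b, c, rfl⟩
    refine ⟨2, Subtype.ext ?_⟩
    obtain ⟨x, hx⟩ := l3uu_pow a b c p
    obtain ⟨y, hy⟩ := l3uu_pow 0 (x * a) 0 p
    change l3uu a b c ^ p ^ 2 = 1
    rw [sq, pow_mul, hx, h0, zero_mul, zero_mul, zero_mul, zero_add, hy, h0]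
    simp [l3uu_zero]
  have := hA _ (hU.map (QuotientGroup.mk' _))
  have e := setLike_mul_comm (Subgroup.mem_map_of_mem (QuotientGroup.mk' (Subgroup.center _))
    (show l3uu (1 : F) 0 0 ∈ U from ⟨_, _, _, rfl⟩)) (Subgroup.mem_map_of_mem _
    (show l3uu (0 : F) 0 1 ∈ U from ⟨_, _, _, rfl⟩))
  rw [← map_mul, ← map_mul, QuotientGroup.mk'_eq_mk'] at e
  obtain ⟨z, hz, e⟩ := e
  obtain ⟨r, -, hr⟩ := Matrix.SpecialLinearGroup.mem_center_iff.1 hz
  rw [l3uu_mul, l3uu_mul] at e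
  have e' := (Matrix.SpecialLinearGroup.coe_mul _ _).symm.trans (congrArg Subtype.val e)
  rw [← hr] at e'
  have e1 := congrFun (congrFun e' 0) 0
  have e2 := congrFun (congrFun e' 0) 2
  simp [l3uu] at e1 e2
  exact one_ne_zero (e1.symm.trans e2)

theorem lf_PSL3 {F : Type} [Field F] [Fintype F] : Lf (ProjectiveSpecialLinearGroup (Fin 3) F) := by
  obtain ⟨p, hp'⟩ := CharP.exists F
  have hp := CharP.char_is_prime F p
  have := Fact.mk hp
  obtain ⟨f, hf, hF⟩ := UL.card_eq_pow F p hp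
  have q2 : 1 < Fintype.card F := Fintype.one_lt_card
  have pq : p ∣ Fintype.card F := hF ▸ dvd_pow_self p (by omega)
  have ep : ∀ a : ℕ, a.Prime → a ∣ Fintype.card F → a = p := fun a ha h =>
    (Nat.prime_dvd_prime_iff_eq ha hp).1 (ha.dvd_of_dvd_pow (hF ▸ h))
  have ad : ∀ m a b : ℕ, (m = Fintype.card F - 1 ∨
      m = p * ((Fintype.card F - 1) / Nat.gcd 3 (Fintype.card F - 1))) → a ∣ m → b ∣ m →
      Adj (ProjectiveSpecialLinearGroup (Fin 3) F) a b := fun m a b hm h1 h2 => by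
    obtain ⟨g, rfl⟩ := (Set.ext_iff.1 (S2476.result (F := F) p) m).2 (hm.elim
      (fun e => .inr (.inr (.inl e.dvd))) fun e => .inr (.inr (.inr (.inl (by
        rw [Nat.mul_div_assoc _ (Nat.gcd_dvd_right _ _)]; exact e.dvd)))))
    exact adj_of_orderOf g h1 h2
  have ev : p ≠ 2 → 2 ∣ Fintype.card F - 1 := fun h => by
    have := mt (ep 2 Nat.prime_two) h.symm
    omega
  have dv : ∀ s : ℕ, s.Prime → s ≠ 3 → s ∣ Fintype.card F - 1 →
      s ∣ (Fintype.card F - 1) / Nat.gcd 3 (Fintype.card F - 1) := fun s hs h3 h => by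
    rw [← Nat.mul_div_cancel' (Nat.gcd_dvd_right 3 (Fintype.card F - 1))] at h
    exact (hs.dvd_mul.1 h).resolve_left fun c => h3
      ((Nat.prime_dvd_prime_iff_eq hs Nat.prime_three).1 (c.trans (Nat.gcd_dvd_left _ _)))
  have key : ∀ s : ℕ, s.Prime → s ≠ p → ¬ Cy (ProjectiveSpecialLinearGroup (Fin 3) F) s →
      s ∣ Fintype.card F - 1 := fun s hs h1 hc => by
    by_cases h2 : s = 2
    · exact h2 ▸ ev fun c => h1 (h2.trans c.symm)
    have hq : ¬ s ∣ Fintype.card F := mt (ep s hs) h1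
    have h3 := two_le_lin hs h2 hq SpecialLinearGroup.coeMonoidHom
      SpecialLinearGroup.coeMonoidHom_injective fun c => hc (c.quot hs)
    have h4 := one_le_ord hs hq
    rw [Fintype.card_fin] at h3
    have := (dvd_pow_sub_one_iff (l := s) (i := 1) q2.le).2 (Eq.dvd (by omega))
    rwa [pow_one] at this
  have fb : FB (ProjectiveSpecialLinearGroup (Fin 3) F) := fun s hs h2 hc => by
    by_cases h3 : s = 3
    · exact .inr (h3 ▸ l3_out2)
    left
    by_cases e : s = p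
    · exact ad _ 2 s (.inr rfl) ((dv 2 Nat.prime_two (by norm_num) (ev (e ▸ h2))).mul_left _)
        (e ▸ dvd_mul_right _ _)
    have k := key s hs e hc
    by_cases p2 : p = 2
    · exact ad _ 2 s (.inr rfl) (p2 ▸ dvd_mul_right _ _) ((dv s hs h3 k).mul_left _)
    · exact ad _ 2 s (.inl rfl) (ev p2) k
  obtain ⟨π, -, -, h5⟩ := S2601.result hf hF (le_refl 3)
  rw [← hF] at h5
  rcases (Nat.dvd_prime Nat.prime_three).1 (Nat.gcd_dvd_left 3 (Fintype.card F - 1)) with e | e
  · have inj := (MonoidHom.ker_eq_bot_iff π).1 (Subgroup.card_eq_one.1 (h5.trans e))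
    exact lf_of_comm ⟨⟨fun a b => inj (by rw [map_mul, map_mul, mul_comm])⟩⟩ fb
  have h3 : 3 ∣ Fintype.card F - 1 := e ▸ Nat.gcd_dvd_right _ _
  refine lf_of_three ((Subgroup.card_dvd_of_le (Abelianization.commutator_subset_ker π)).trans
    (h5.trans e).dvd) fb (fun s hs s3 hc => ?_)
    ⟨l3_dvd Nat.prime_two (.inl rfl), l3_dvd Nat.prime_three (.inr (.inl rfl))⟩
  by_cases e : s = p
  · subst e
    rcases sm_PSL3 (F := F) s 3 hs Nat.prime_three s3 (.inr (.inr pq)) (.inr (.inl rfl))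
      (l3_dvd hs (.inr (.inr pq))) (l3_dvd Nat.prime_three (.inr (.inl rfl))) with (k | k) | k | k
    exacts [.inl k.symm, .inr k.2, .inl k, absurd k.1 (not_ab_PSL3 hs pq)]
  · exact .inl (ad _ 3 s (.inl rfl) h3 (key s hs e hc))

end Cfsg.Agent.ARS
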