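import Cfsg.Agent.ARS.OutA
import Cfsg.Agent.ARS.GL1
import Cfsg.Agent.NPQ.SL
import Cfsg.Agent.NPQ.FldL

/-!
S4185: `K = L_n(q)`, `n ≥ 4`, `d = gcd(n, q-1)`.
`big_PSL`: if `s ∣ q (q²-1)`: `adjZ_SL_sm`, `AdjZ.quot`.  Otherwise `s ≠ 2` (`six_dvd`), `s ∤ q`, `e ≥ 3`
(`e ∤ 2`, `one_le_ord`, `dvd_pow_sub_one_iff`); `Cy.quot`, `two_le_lin`: `2 e ≤ n`; `adjZ_SL_of_dvd` with
`A = n - e ≥ 2`, `B = e`, `dvd_card_SL`.
`lf_PSL`: `φ` from S2601 (commutative target; `Abelianization.commutator_subset_ker`), kernel cyclic of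
order `d`.  `FB`: `Big.fb`.  `FC`: `fc_of_exp` with `m = d`, `r ∣ d ∣ q - 1`; a prime `r ∣ q (q²-1)` divides
`|K|` (adjacent to `2` or `3` by `adjZ_SL_sm`; `orderOf_dvd_natCard`).  `Cen`: `cen_of_cyc` with
`D = ker φ`, bound `n`: a prime `s ≤ n`, `s ∤ q (q²-1)`, divides `q^(s-1) - 1`, `2 ≤ s - 1 ≤ n`, so divides
`d |K|` (`FldL.ord`) and `s ∤ d`.
-/

set_option autoImplicit false
set_option linter.unusedSectionVars false

namespace Cfsg.Agent.ARS

open Cfsg Cfsg.Agent.NPQ Matrix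

variable {F : Type} [Field F] [Fintype F] {n b : ℕ}

theorem big_PSL (hn : 4 ≤ n) (hb : b.Prime) (h : b ∣ Fintype.card F * (Fintype.card F ^ 2 - 1)) :
    Big (ProjectiveSpecialLinearGroup (Fin n) F) b := by
  intro s hs _ hc
  by_cases h1 : s ∣ Fintype.card F * (Fintype.card F ^ 2 - 1)
  · exact (adjZ_SL_sm hn hb hs h h1).quot hb hs
  have h2 : s ≠ 2 := fun e => h1 (dvd_of_small (.inl e))
  have hq : ¬ s ∣ Fintype.card F := fun e => h1 (e.mul_right _)
  have q1 : 1 ≤ Fintype.card F := Fintype.card_pos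
  have e1 := one_le_ord hs hq
  have e2 : ¬ orderOf (Fintype.card F : ZMod s) ∣ 2 := fun e =>
    h1 (((dvd_pow_sub_one_iff q1).2 e).mul_left _)
  have e3 : 3 ≤ orderOf (Fintype.card F : ZMod s) := by
    by_contra c
    have : orderOf (Fintype.card F : ZMod s) = 1 ∨ orderOf (Fintype.card F : ZMod s) = 2 := by omega
    rcases this with c | c <;> exact e2 (by rw [c]; try exact one_dvd _)
  have e4 := two_le_lin (G := SpecialLinearGroup (Fin n) F) hs h2 hq
    SpecialLinearGroup.coeMonoidHom SpecialLinearGroup.coeMonoidHom_injective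
    (fun c => hc (c.quot hs))
  rw [Fintype.card_fin] at e4
  refine (adjZ_SL_of_dvd (A := n - orderOf (Fintype.card F : ZMod s))
    (B := orderOf (Fintype.card F : ZMod s)) (by omega) hb hs
    (dvd_card_SL (by omega) hb ?_) (dvd_card_SL (by omega) hs (.inr ⟨_, by omega, le_refl _,
      (dvd_pow_sub_one_iff q1).2 dvd_rfl⟩))).quot hb hs
  exact (hb.dvd_mul.1 h).imp_right fun c => ⟨2, le_refl _, by omega, c⟩

theorem ln_dvd (hn : 4 ≤ n) (hb : b.Prime) (h : b ∣ Fintype.card F * (Fintype.card F ^ 2 - 1)) :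
    b ∣ Nat.card (ProjectiveSpecialLinearGroup (Fin n) F) := by
  obtain ⟨x, -, -, hx, -⟩ := (adjZ_SL_sm (F := F) hn hb hb h h).quot hb hb
  exact hx ▸ orderOf_dvd_natCard x

theorem ln_small (hn : 4 ≤ n) {s : ℕ} (hs : s.Prime) (h : s ≤ n) :
    s ∣ Nat.card (ProjectiveSpecialLinearGroup (Fin n) F) := by
  by_cases h1 : s ∣ Fintype.card F * (Fintype.card F ^ 2 - 1)
  · exact ln_dvd hn hs h1
  have h2 : s ≠ 2 := fun e => h1 (dvd_of_small (.inl e))
  have h3 : s ≠ 3 := fun e => h1 (dvd_of_small (.inr (.inl e)))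
  have h4 := hs.two_le
  have hq : ¬ s ∣ Fintype.card F := fun e => h1 (e.mul_right _)
  have q1 : 1 ≤ Fintype.card F := Fintype.card_pos
  obtain ⟨m, rfl⟩ : ∃ m, n = m + 2 := ⟨n - 2, by omega⟩
  have k := FldL.ord F m
  simp only [Nat.card_eq_fintype_card (α := F)] at k
  have k1 : s ∣ Fintype.card F ^ (s - 3 + 2) - 1 := by
    rw [num_sub (Nat.one_le_pow _ _ q1), Nat.cast_pow, show s - 3 + 2 = s - 1 by omega]
    exact num_unit hs hq
  have k2 := (k1.trans (Finset.dvd_prod_of_mem (fun i => Fintype.card F ^ (i + 2) - 1)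
    (Finset.mem_range.2 (show s - 3 < m + 1 by omega)))).mul_left
    (Fintype.card F ^ (∑ i ∈ Finset.range (m + 2), i))
  rw [← k] at k2
  refine (hs.dvd_mul.1 k2).resolve_left fun c => h1 (Dvd.dvd.mul_left ?_ _)
  exact (c.trans (Nat.gcd_dvd_right _ _)).trans (Nat.sub_one_dvd_pow_sub_one _ _)

theorem lf_PSL (hn : 4 ≤ n) : Lf (ProjectiveSpecialLinearGroup (Fin n) F) := by
  obtain ⟨p, hp'⟩ := CharP.exists F
  have hp := CharP.char_is_prime F p
  have := Fact.mk hp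
  obtain ⟨f, hf, hF⟩ := UL.card_eq_pow F p hp
  obtain ⟨φ, -, hc, hd⟩ := S2601.result hf hF (show 3 ≤ n by omega)
  rw [← hF] at hd
  have hk := Abelianization.commutator_subset_ker φ
  refine ⟨(big_PSL hn Nat.prime_two (dvd_of_small (.inl rfl))).fb,
    fc_of_exp (m := Nat.gcd n (Fintype.card F - 1)) (fun y hy => ?_) fun r hr _ h => ?_,
    cen_of_cyc (d := n) φ.ker hk hc (hd ▸ Nat.gcd_le_left _ (by omega)) fun s hs h => ln_small hn hs h⟩
  · exact orderOf_dvd_iff_pow_eq_one.1 (hd ▸ Subgroup.orderOf_dvd_natCard _ (hk hy))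
  · have h1 : r ∣ Fintype.card F * (Fintype.card F ^ 2 - 1) :=
      ((h.trans (Nat.gcd_dvd_right _ _)).trans (Nat.sub_one_dvd_pow_sub_one _ _)).mul_left _
    exact ⟨ln_dvd hn hr h1, fun s hs a b => .inl (big_PSL hn hr h1 s hs a b)⟩

end Cfsg.Agent.ARS
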