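import Cfsg.Agent.ARS.OutA
import Cfsg.Agent.ARS.GL1
import Cfsg.Agent.ARS.OI
import Cfsg.Agent.NPQ.O
import Cfsg.Agent.S2604
import Cfsg.Agent.S2605
import Cfsg.Agent.S2606
import Cfsg.Agent.S2607
import Cfsg.Agent.S2608

/-!
S4185: orthogonal groups.
`big_orth`: if `s ∣ q (q²-1)` use `SmQ` (`b ∣ 6 ∣ q (q²-1)`, `six_dvd`).  Otherwise `s ≠ 2`, `s ∤ q`, `e ≥ 3`
(`e ∤ 2`, `one_le_ord`); `Cy.quot`, `exists_fix` for `ρ` = the matrix of an element (as in `orth_gen`),
`adjZ_orth` for `D = KSG.matRep Q h` (`matRep_apply`: the two kernels agree), `AdjZ.quot`.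
Instances: `oddQF`, `plusQF`, `minusQF` as in NPQ/O (`nd_oddQF`, `oddQF_apply`, ..), `orth_odd.1` etc.
`Out`: `q = p^f` (`K.exists_card_pow`, `f ≥ 1`).  S2604-S2608: either commutative (`lf_of_comm`; transport
along `≃*`), cyclic, or `A × Multiplicative (ZMod f)` with `A = DihedralGroup 4`, `Perm (Fin 3)`,
`Perm (Fin 4)` (`lf_of_prod`; `2, 3 ∣ |K|` from `SmQ`: `Adj K 2 3`).
-/

set_option autoImplicit false
set_option linter.unusedSectionVars false

namespace Cfsg.Agent.ARS

open Cfsg Cfsg.Agent.NPQ Matrix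

variable {F : Type} [Field F] [Fintype F] {m : ℕ}

theorem big_orth {ι : Type} [Fintype ι] [DecidableEq ι] (Q : QuadraticForm F (ι → F))
    (hQ : Class.Orth.ND Q) {q : (ι → F) → F} (h : ∀ v, Q v = q v) (h5 : 5 ≤ Fintype.card ι)
    (hs : SmQ (POmega F q) (Fintype.card F)) {b : ℕ} (hb : b = 2 ∨ b = 3) : Big (POmega F q) b := by
  intro s hsp hsb hc
  have hb' : b.Prime := by rcases hb with rfl | rfl <;> norm_num
  have hb6 : b ∣ Fintype.card F * (Fintype.card F ^ 2 - 1) :=
    dvd_of_small (by rcases hb with h | h; exacts [.inl h, .inr (.inl h)])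
  by_cases h1 : s ∣ Fintype.card F * (Fintype.card F ^ 2 - 1)
  · exact hs b s hb' hsp hsb.symm hb6 h1
  have h2 : s ≠ 2 := fun e => h1 (dvd_of_small (.inl e))
  have hq : ¬ s ∣ Fintype.card F := fun e => h1 (dvd_of_small (.inr (.inr e)))
  have he : 3 ≤ orderOf (Fintype.card F : ZMod s) := by
    have h3 := one_le_ord hsp hq
    have h4 : ¬ orderOf (Fintype.card F : ZMod s) ∣ 2 := fun e =>
      h1 (((dvd_pow_sub_one_iff Fintype.card_pos).2 e).mul_left _)
    by_contra! h6
    generalize orderOf (Fintype.card F : ZMod s) = e at h3 h4 h6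
    interval_cases e <;> simp at h4
  obtain ⟨x, hx, h3⟩ := exists_fix (G := Omega F q) hsp h2 hq
    (((Units.coeHom (Matrix ι ι F)).comp (isometryGroup F q).subtype).comp (Omega F q).subtype)
    (Units.val_injective.comp (Subtype.val_injective.comp Subtype.val_injective))
    fun c => hc (c.quot hsp)
  refine (adjZ_orth (KSG.matRep Q h) hQ (by simpa using h5) hsp hq hb hx ((he.trans h3).trans_eq ?_)).quot
    hb' hsp
  refine congrArg (fun L : (ι → F) →ₗ[F] (ι → F) => Module.finrank F (LinearMap.ker L))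
    (LinearMap.ext fun v => ?_)
  rw [Matrix.mulVecLin_apply, Matrix.sub_mulVec, Matrix.one_mulVec]
  rfl

theorem o_six {K : Type*} [Group K] {q : ℕ} (h : SmQ K q) : 2 ∣ Nat.card K ∧ 3 ∣ Nat.card K := by
  obtain ⟨x, y, -, hx, hy⟩ := h 2 3 Nat.prime_two Nat.prime_three (by norm_num)
    (dvd_of_small (.inl rfl)) (dvd_of_small (.inr (.inl rfl)))
  exact ⟨hx ▸ orderOf_dvd_natCard x, hy ▸ orderOf_dvd_natCard y⟩

theorem o_comm {K C : Type*} [Group K] [CommGroup C] (e : Nonempty (Out K ≃* C)) (h : Big K 2) :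
    Lf K := by
  obtain ⟨e⟩ := e
  exact lf_of_comm ⟨⟨fun a b => e.injective (by rw [map_mul, map_mul, mul_comm])⟩⟩ h.fb

theorem o_prod {K A C : Type*} [Group K] [Group A] [Fintype A] [CommGroup C] {q : ℕ}
    (e : Nonempty (Out K ≃* A × C)) (hA : Fintype.card A ∣ 24) (hs : SmQ K q)
    (h : ∀ {b : ℕ}, b = 2 ∨ b = 3 → Big K b) : Lf K := by
  obtain ⟨e⟩ := e
  exact lf_of_prod e (by rwa [Nat.card_eq_fintype_card]) (h (.inl rfl)) (h (.inr rfl)) (o_six hs)

theorem lf_odd (hm : 3 ≤ m) (ho : Odd (Fintype.card F)) : Lf (POmega F (quadFormOdd m F)) := by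
  obtain ⟨p, -, f, hp, hF⟩ := FiniteField.card' F
  have := Fact.mk hp
  have h2 : p ≠ 2 := by
    rintro rfl
    rw [hF] at ho
    exact (Nat.not_odd_iff_even.2 (even_two.pow_of_ne_zero f.ne_zero)) ho
  exact o_comm (S2604.result f.2 hF h2 hm) (big_orth _
    (Class.Orth.nd_oddQF m F (Class.Orth.two_ne_zero_of_odd_card ho)) (Class.Orth.oddQF_apply m F)
    (by simp; omega) (orth_odd hm ho).1 (.inl rfl))

theorem lf_plus (hm : 4 ≤ m) : Lf (POmega F (quadFormPlus m F)) := by
  obtain ⟨p, -, f, hp, hF⟩ := FiniteField.card' F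
  have := Fact.mk hp
  have hs := (orth_plus (F := F) hm).1
  have hB : ∀ {b : ℕ}, b = 2 ∨ b = 3 → Big (POmega F (quadFormPlus m F)) b := fun hb =>
    big_orth _ (Class.Orth.nd_plusQF m F) (Class.Orth.plusQF_apply m F) (by simp; omega) hs hb
  by_cases h2 : p = 2
  · subst h2
    have h := S2607.result f.2 hF hm
    split_ifs at h
    · exact o_prod h (by rw [Fintype.card_perm]; decide) hs hB
    · exact o_comm h (hB (.inl rfl))
  · have h := S2608.result f.2 hF h2 hm
    split_ifs at h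
    · exact o_prod h (by rw [Fintype.card_perm]; decide) hs hB
    · exact o_comm h (hB (.inl rfl))
    · exact o_prod h (by rw [DihedralGroup.card]; decide) hs hB

theorem lf_minus (hm : 4 ≤ m) (c d : F)
    (h : ∀ z₁ z₂ : F, z₁ ^ 2 + c * z₁ * z₂ + d * z₂ ^ 2 = 0 → z₁ = 0 ∧ z₂ = 0) :
    Lf (POmega F (quadFormMinus (m - 1) F c d)) := by
  obtain ⟨p, -, f, hp, hF⟩ := FiniteField.card' F
  have := Fact.mk hp
  have hs := (orth_minus (F := F) hm c d h).1
  have hB : ∀ {b : ℕ}, b = 2 ∨ b = 3 → Big (POmega F (quadFormMinus (m - 1) F c d)) b := fun hb =>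
    big_orth _ (Class.Orth.nd_minusQF (m - 1) h) (Class.Orth.minusQF_apply (m - 1) F c d)
      (by simp; omega) hs hb
  by_cases h2 : p = 2
  · subst h2
    exact lf_of_cyclic (S2605.result f.2 hF hm c d h).1
  · have h := S2606.result f.2 hF h2 hm c d h
    split_ifs at h
    · exact o_prod h (by rw [DihedralGroup.card]; decide) hs hB
    · exact o_comm h (hB (.inl rfl))

end Cfsg.Agent.ARS
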