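import Cfsg.Agent.ARS.OutA
import Cfsg.Agent.ARS.GL2
import Cfsg.Agent.NPQ.Sp
import Cfsg.Agent.NPQ.FldS
import Cfsg.Agent.S2600

/-!
S4185: `K = PSp_{2m}(q)`.
`adjZ_Sp_of_dvd`: block embedding `Sp_A × Sp_B → Sp_{A+B}` (reindex `fromBlocks x 0 0 y` along
`(Fin A ⊕ Fin A) ⊕ (Fin B ⊕ Fin B) ≃ Fin (A+B) ⊕ Fin (A+B)`, `Equiv.sumSumSumComm`, `finSumFinEquiv`;
`ca find "symplecticGroup.*×"`), central elements are scalars `±1` (S0246 / `S2730`), so `(x,1)`, `(1,y)` are
non-central for `x, y ≠ 1` (template `adjZ_slBlk`, `adjZ_SU_of_dvd`).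
`big_PSp`: `s ∣ q (q²-1)`: `smQ_PSp`.  Otherwise `Cy.quot`, `two_le_form` (as in `nAll_PSp`) give `j ≥ 1`,
`2 j ≤ m`, `s ∣ q^(2j) - 1 ∣ |Sp_j|` (S0245), and `2 ∣ q (q²-1) ∣ |Sp_{m-j}|`.
`comm_out_PSp`: `m = 2`, `q` even: S2600.  Otherwise `psiS` is onto (`psiS_surjective`); the projection
`π : Aut → RingAut F` (`exists_proj`, `psiS_ker`) kills `Inn` (cf. `fldAll_PSp`), the induced surjection
`Out → RingAut F` (cyclic, `isCyclic_ringAut`) has kernel of order `gcd(2,q-1)` (`|Out| = gcd · f`, as in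
`fldAll_PSp` or S0814); `comm_of_proj`.
-/

set_option autoImplicit false
set_option linter.unusedSectionVars false

namespace Cfsg.Agent.ARS

open Cfsg Cfsg.Agent.NPQ Matrix

variable {F : Type} [Field F] [Fintype F] {m A B a b : ℕ}

/-- the index shuffle -/
def spE (A B : ℕ) : (Fin A ⊕ Fin A) ⊕ (Fin B ⊕ Fin B) ≃ Fin (A + B) ⊕ Fin (A + B) :=
  (Equiv.sumSumSumComm _ _ _ _).trans (Equiv.sumCongr finSumFinEquiv finSumFinEquiv)

theorem spE_J : J (Fin (A + B)) F =
    reindex (spE A B) (spE A B) (fromBlocks (J (Fin A) F) 0 0 (J (Fin B) F)) := by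
  ext i j
  obtain ⟨i, rfl⟩ := (spE A B).surjective i
  obtain ⟨j, rfl⟩ := (spE A B).surjective j
  rw [reindex_apply, submatrix_apply, Equiv.symm_apply_apply, Equiv.symm_apply_apply]
  rcases i with (i | i) | (i | i) <;> rcases j with (j | j) | (j | j) <;>
    simp [spE, J, one_apply, -finSumFinEquiv_apply_left, -finSumFinEquiv_apply_right]

/-- block sums -/
def spBlk : symplecticGroup (Fin A) F × symplecticGroup (Fin B) F →*
    symplecticGroup (Fin (A + B)) F :=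
  MonoidHom.mk' (fun x => ⟨reindex (spE A B) (spE A B) (fromBlocks x.1.1 0 0 x.2.1), by
    rw [SymplecticGroup.mem_iff, spE_J]
    simp [fromBlocks_multiply, submatrix_mul_equiv, fromBlocks_transpose,
      SymplecticGroup.mem_iff.1 x.1.2, SymplecticGroup.mem_iff.1 x.2.2]⟩)
    fun x y => Subtype.ext (by simp [fromBlocks_multiply, submatrix_mul_equiv])

theorem spBlk_center (x : symplecticGroup (Fin A) F × symplecticGroup (Fin B) F)
    (h : spBlk x ∈ Subgroup.center (symplecticGroup (Fin (A + B)) F)) :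
    ∃ r : F, x.1.1 = scalar _ r ∧ x.2.1 = scalar _ r := by
  obtain ⟨r, hr⟩ : ∃ r : F, (spBlk x).1 = scalar _ r := by
    rcases Class.Sp.mem_center_iff.1 h with e | e
    exacts [⟨1, by rw [e, map_one]; rfl⟩, ⟨-1, by rw [e, map_neg, map_one]; rfl⟩]
  have k : ∀ i j, fromBlocks x.1.1 0 0 x.2.1 i j = scalar _ r (spE A B i) (spE A B j) := fun i j => by
    rw [← hr]
    change _ = reindex (spE A B) (spE A B) _ _ _
    simp
  refine ⟨r, Matrix.ext fun i j => (k (.inl i) (.inl j)).trans ?_,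
    Matrix.ext fun i j => (k (.inr i) (.inr j)).trans ?_⟩ <;>
  simp [diagonal_apply]

theorem sp_nonempty {x : symplecticGroup (Fin A) F} (h : x ≠ 1) : Nonempty (Fin A ⊕ Fin A) := by
  by_contra c
  have := not_nonempty_iff.1 c
  exact h (Subtype.ext (Subsingleton.elim _ _))

theorem adjZ_Sp_of_dvd (ha : a.Prime) (hb : b.Prime)
    (h1 : a ∣ Nat.card (symplecticGroup (Fin A) F)) (h2 : b ∣ Nat.card (symplecticGroup (Fin B) F)) :
    AdjZ (symplecticGroup (Fin (A + B)) F) a b := by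
  have := Fact.mk ha
  have := Fact.mk hb
  obtain ⟨x, hx⟩ := exists_prime_orderOf_dvd_card' a h1
  obtain ⟨y, hy⟩ := exists_prime_orderOf_dvd_card' b h2
  have x1 : x ≠ 1 := fun c => by rw [c, orderOf_one] at hx; exact ha.one_lt.ne hx
  have y1 : y ≠ 1 := fun c => by rw [c, orderOf_one] at hy; exact hb.one_lt.ne hy
  obtain ⟨i⟩ := sp_nonempty x1
  obtain ⟨j⟩ := sp_nonempty y1
  refine ⟨spBlk (x, 1), spBlk (1, y), Commute.map (by simp [Commute, SemiconjBy]) _,
    ⟨1, ?_⟩, ⟨1, ?_⟩, fun c => x1 ?_, fun c => y1 ?_⟩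
  · rw [← map_pow, pow_one, Prod.pow_mk, ← hx, pow_orderOf_eq_one, one_pow, Prod.mk_one_one, map_one]
  · rw [← map_pow, pow_one, Prod.pow_mk, ← hy, pow_orderOf_eq_one, one_pow, Prod.mk_one_one, map_one]
  · obtain ⟨r, h1, h2⟩ := spBlk_center _ c
    have : (1 : F) = r := by simpa using congrFun (congrFun h2 j) j
    exact Subtype.ext (by rw [← this, map_one] at h1; exact h1)
  · obtain ⟨r, h1, h2⟩ := spBlk_center _ c
    have : (1 : F) = r := by simpa using congrFun (congrFun h1 i) i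
    exact Subtype.ext (by rw [← this, map_one] at h2; exact h2)

theorem big_PSp (hm : 2 ≤ m) : Big (PSp m F) 2 := by
  intro s hs h2 hc
  have h6 : 2 ∣ Fintype.card F * (Fintype.card F ^ 2 - 1) := (by norm_num : 2 ∣ 6).trans (six_dvd _)
  by_cases hq : s ∣ Fintype.card F
  · exact smQ_PSp hm 2 s Nat.prime_two hs h2.symm h6 (hq.mul_right _)
  obtain ⟨j, h1, h3, h4⟩ := two_le_form hs h2 hq (symplecticGroup (Fin m) F).subtype
    Subtype.val_injective (isUnit_det_J _ _).ne_zero (fun g => SymplecticGroup.mem_iff'.1 g.2)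
    fun c => hc (c.quot hs)
  obtain ⟨j, rfl⟩ := Nat.exists_eq_add_of_le' h1
  obtain ⟨k, rfl⟩ : ∃ k, m = (k + 1) + (j + 1) := ⟨m - (j + 1) - 1, by simp at h3; omega⟩
  refine (adjZ_Sp_of_dvd Nat.prime_two hs (h6.trans ?_) (h4.trans ?_)).quot Nat.prime_two hs <;>
    rw [S0245.result rfl]
  · exact Nat.mul_dvd_mul (dvd_pow_self _ (by positivity))
      (Finset.dvd_prod_of_mem (fun i => Fintype.card F ^ (2 * (i + 1)) - 1) (a := 0) (by simp))
  · exact (Finset.dvd_prod_of_mem (fun i => Fintype.card F ^ (2 * (i + 1)) - 1) (a := j)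
      (by simp)).mul_left _

theorem comm_out_PSp (hm : 2 ≤ m) (h2 : m = 2 → 3 ≤ Fintype.card F) :
    IsMulCommutative (Out (PSp m F)) := by
  by_cases h4 : m = 2 → (2 : F) ≠ 0
  · obtain ⟨π, -, -, h5⟩ := KSG.exists_projS hm h4
    have := KSG.isCyclic_ringAut F
    refine comm_of_proj (QuotientGroup.lift (Inn _) π (h5 ▸ KSG.inn_le_range_iotaS)) ?_
    rw [QuotientGroup.ker_lift, h5, ← Subgroup.relIndex_ker, QuotientGroup.ker_mk']
    refine Nat.dvd_of_mul_dvd_mul_right (Nat.card_pos (α := PSp m F)) ?_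
    have h6 := ((Inn (PSp m F)).subgroupOf (KSG.iotaS m F).range).index_mul_card
    rw [Nat.card_congr (Subgroup.subgroupOfEquivOfLe KSG.inn_le_range_iotaS).toEquiv,
      KSG.card_inn_PSp hm, KSG.card_range_iotaS hm] at h6
    exact h6.dvd.trans (Nat.mul_dvd_mul_right (Nat.gcd_dvd_left _ _) _)
  push Not at h4
  obtain ⟨rfl, h5⟩ := h4
  have : CharP F 2 := CharTwo.of_one_ne_zero_of_two_eq_zero one_ne_zero h5
  obtain ⟨n, -, hn⟩ := FiniteField.card F 2
  exact (S2600.result n.2 hn).1.isMulCommutative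

theorem lf_PSp (hm : 2 ≤ m) (h2 : m = 2 → 3 ≤ Fintype.card F) : Lf (PSp m F) :=
  lf_of_comm (comm_out_PSp hm h2) (big_PSp hm).fb

end Cfsg.Agent.ARS
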