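import Cfsg.Agent.ARS.Defs
import Cfsg.Agent.NPQ.ChSm
import Cfsg.Agent.Lang.SpecF4
import Cfsg.Agent.Chev.FoldInst
import Cfsg.Agent.K.CopTw

/-!
S4185: adjacency in `F₄(q)` and the embedding `F₄(q) ≤ ²E₆(q)`.

`orders_F4`: as `Lang.exists_orderOf_F4` (Lang/SpecF4); for odd `q` the torus of order `q⁴-1` is not cyclic,
so only odd divisors of `q⁴-1` are used (`b = 2` is adjacent to `s ∣ q²+1` through the order `p (q²+1)`).
`adj_F4`: if `s ∣ q (q²-1)` use `smQ_F4`.  Otherwise `s` divides `q²+1`, `q²+q+1` or `q²-q+1`, hence `q²+1`,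
`q³-1` or `q³+1`.  If `b ∣ q` then `b = p`: element of order `p N`.  Otherwise `b ∣ q²-1`, which divides
`q⁴-1`, `(q³-1)(q+1)`, `(q³+1)(q-1)`.  `adj_of_orderOf`.
`exists_F4_2E6`: `F₀` = the subfield fixed by `φ t = t^q` (see NPQ/TwSm), `Ψ = Φ ∘ fieldHom chevF4 F₀.subtype`
with `Φ` from `exists_F4_E6` for the field `K`; its image is fixed by the graph and by the field
automorphism, so lies in `²E₆(q)`: generalize the construction of `Ψ` in S5743 (lines 170-215; there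
`q = 2`), or show that the images `foldX (xC chevE6 K) orbF4 r t`, `t ∈ F₀`, of the simple root elements
and their negatives lie in `T` (`range_le_of_simple`, `E6.mem_T₁`, `par_pos_mem`; `E6.T_eq_Fix`, S2191).
-/

set_option autoImplicit false
set_option linter.unusedSectionVars false

namespace Cfsg.Agent.ARS

open Cfsg Cfsg.Agent.NPQ Cfsg.Lie

open Cfsg.Agent.Chev Cfsg.Agent.Lang in
theorem orders_F4 {F : Type*} [Field F] [Fintype F] (p : ℕ) [Fact p.Prime] [CharP F p] {q : ℤ}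
    (hq : (Fintype.card F : ℤ) = q) {N : ℕ} :
    ((Odd N ∧ (N : ℤ) ∣ q ^ 4 - 1) ∨ (N : ℤ) ∈ [(q ^ 3 - 1) * (q + 1), (q ^ 3 + 1) * (q - 1)] →
      ∃ a : chevF4.group F, orderOf a = N) ∧
    ((N : ℤ) ∈ [q ^ 3 - 1, q ^ 3 + 1, q ^ 2 + 1] → ∃ a : chevF4.group F, orderOf a = p * N) := by
  have := goodF4
  have key := fun l A hA (y : ℕ → ℤ) h1 h2 μ => exists_orderOf_tor (D := chevF4) (F := F) (N := N)
    (by simp) p l (n := 4) rfl A hA y h1 h2 μ
  have hc := fun t h => coprime_of_eq (F := F) p (N := N) t h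
  rw [hq] at key hc
  simp only [List.mem_cons, List.not_mem_nil, or_false]
  have hv : ∀ (v : Fin 4 → ℤ) (g : Fin 4 → ℤ), (∀ j, g j = N * v j) → ∀ j, (N : ℤ) ∣ g j :=
    fun v g h j => ⟨_, h j⟩
  refine ⟨?_, ?_⟩
  · rintro (h | h | h)
    · obtain ⟨h0, w, h⟩ := h
      obtain ⟨t, ht⟩ := (CharP.cast_eq_zero_iff F p _).1 (FiniteField.cast_card_eq_zero F)
      have h1 : N.Coprime p := Nat.isCoprime_iff_coprime.1 ⟨-w, t * q ^ 3, by
        rw [ht] at hq
        push_cast at hq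
        linear_combination h + q ^ 3 * hq⟩
      refine (key ([2, 1, 2, 1, 0] : List (Fin 4))
        [[-1, -2, -2, 0], [1, 1, 2, 0], [0, 0, -1, 0], [0, 1, 2, 1]] (by decide +kernel)
        (nthL [1 + q, 1 + 2 * q + q ^ 2, 2 + 2 * q + 2 * q ^ 2, 1 + q + q ^ 2 + q ^ 3] 0) h1
        (hv ![0, 0, 0, w] _ fun j => ?_) (nthL [2, -2, 1] 0) ?_).1
      · fin_cases j <;> simp [Fin.sum_univ_four, aget, nthL_eq, ← h] <;> ring
      · convert Nat.isCoprime_iff_coprime.2 (Nat.coprime_two_left.2 h0)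
        simp [Fin.sum_univ_four, nthL_eq]; ring
    · refine (key ([3, 1, 0] : List (Fin 4))
        [[-1, -1, 0, 0], [1, 0, 0, 0], [0, 1, 1, 1], [0, 0, 0, -1]] (by decide +kernel)
        (nthL [1 + q, 1 + 2 * q + q ^ 2, 1 + 2 * q + 2 * q ^ 2 + q ^ 3, 1 + q + q ^ 2] 0)
        (hc (q ^ 3 + q ^ 2 - 1) (.inr (by rw [h]; ring)))
        (hv ![0, 0, 1, 0] _ fun j => ?_) (nthL [1, -1, 0, 1] 0) ?_).1
      · fin_cases j <;> simp [Fin.sum_univ_four, aget, nthL_eq, h] <;> ring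
      · convert isCoprime_one_left
        simp [Fin.sum_univ_four, nthL_eq]; ring
    · refine (key ([2, 1, 0] : List (Fin 4))
        [[-1, -1, -2, 0], [1, 0, 0, 0], [0, 1, 1, 0], [0, 0, 1, 1]] (by decide +kernel)
        (nthL [1, 1 + q, 1 + q + q ^ 2, 1 + q ^ 3] 0)
        (hc (q ^ 3 - q ^ 2 + 1) (.inr (by rw [h]; ring)))
        (hv ![0, 0, 0, 1] _ fun j => ?_) (nthL [1] 0) ?_).1
      · fin_cases j <;> simp [Fin.sum_univ_four, aget, nthL_eq, h] <;> ring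
      · simp [Fin.sum_univ_four, nthL_eq, isCoprime_one_left]
  · have e : chevF4.cartan 0 47 = 0 ∧ chevF4.cartan 1 47 = 0 ∧ chevF4.cartan 2 47 = 0 := by
      decide +kernel
    rintro (h | h | h)
    · refine (key ([1, 0] : List (Fin 4))
        [[-1, -1, 0, 0], [1, 0, 0, 0], [0, 1, 1, 0], [0, 0, 0, 1]] (by decide +kernel)
        (nthL [1, 1 + q, 1 + q + q ^ 2] 0) (hc (q ^ 2) (.inr (by rw [h]; ring)))
        (hv ![0, 0, 1, 0] _ fun j => ?_) (nthL [1] 0) ?_).2 47 (by decide) (by decide +kernel)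
        (by simp [Fin.sum_univ_four, nthL_eq, e])
      · fin_cases j <;> simp [Fin.sum_univ_four, aget, nthL_eq, h] <;> ring
      · simp [Fin.sum_univ_four, nthL_eq, isCoprime_one_left]
    · refine (key ([2, 1, 0] : List (Fin 4))
        [[-1, -1, -2, 0], [1, 0, 0, 0], [0, 1, 1, 0], [0, 0, 1, 1]] (by decide +kernel)
        (nthL [1, 1 + q, 1 + q + q ^ 2] 0) (hc (q ^ 2) (.inl (by rw [h]; ring)))
        (hv ![0, 0, 1, 0] _ fun j => ?_) (nthL [1] 0) ?_).2 47 (by decide) (by decide +kernel)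
        (by simp [Fin.sum_univ_four, nthL_eq, e])
      · fin_cases j <;> simp [Fin.sum_univ_four, aget, nthL_eq, h] <;> ring
      · simp [Fin.sum_univ_four, nthL_eq, isCoprime_one_left]
    · refine (key ([2, 1] : List (Fin 4))
        [[1, 1, 2, 0], [0, -1, -2, 0], [0, 1, 1, 0], [0, 0, 1, 1]] (by decide +kernel)
        (nthL [0, 1, 1 + q] 0) (hc q (.inl (by rw [h]; ring)))
        (hv ![0, 0, 1, 0] _ fun j => ?_) (nthL [0, 1] 0) ?_).2 47 (by decide) (by decide +kernel)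
        (by simp [Fin.sum_univ_four, nthL_eq, e])
      · fin_cases j <;> simp [Fin.sum_univ_four, aget, nthL_eq, h]
        ring
      · simp [Fin.sum_univ_four, nthL_eq, isCoprime_one_left]

theorem adj_F4 {F : Type} [Field F] [Fintype F] {q b s : ℕ} (hq : Fintype.card F = q) (hb : b.Prime)
    (hs : s.Prime) (hbs : s ≠ b) (h1 : b ∣ q * (q ^ 2 - 1))
    (h2 : s ∣ q ∨ s ∣ q ^ 4 - 1 ∨ s ∣ q ^ 6 - 1) : Adj (chevF4.group F) b s := by
  by_cases c : s ∣ q * (q ^ 2 - 1)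
  · subst hq
    exact smQ_F4 b s hb hs hbs.symm h1 c
  obtain ⟨p, hp'⟩ := CharP.exists F
  have hp := CharP.char_is_prime F p
  have := Fact.mk hp
  obtain ⟨f, -, hF⟩ := FiniteField.card F p
  obtain ⟨u, rfl⟩ : ∃ u, q = u + 1 := ⟨q - 1, by have := Fintype.card_pos (α := F); omega⟩
  have o := fun N => orders_F4 (F := F) p (q := (u : ℤ) + 1) (N := N) (by rw [hq]; norm_num)
  have e2 : (u + 1) ^ 2 - 1 = u * (u + 2) := Nat.sub_eq_of_eq_add (by ring)
  rw [e2] at c h1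
  have bp : b ∣ u + 1 → b ∣ p := fun h => hb.dvd_of_dvd_pow (by rwa [← hq, hF] at h)
  have key : ∀ N M : ℕ, s ∣ N → N ∣ M → u * (u + 2) ∣ M →
      (N : ℤ) ∈ [((u : ℤ) + 1) ^ 3 - 1, ((u : ℤ) + 1) ^ 3 + 1, ((u : ℤ) + 1) ^ 2 + 1] →
      (M : ℤ) ∈ [(((u : ℤ) + 1) ^ 3 - 1) * ((u : ℤ) + 1 + 1),
        (((u : ℤ) + 1) ^ 3 + 1) * ((u : ℤ) + 1 - 1)] → Adj (chevF4.group F) b s :=
    fun N M k1 k2 k3 k4 k5 => by
      rcases hb.dvd_mul.1 h1 with h | h
      · obtain ⟨a, ha⟩ := (o N).2 k4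
        exact adj_of_orderOf a (ha ▸ (bp h).mul_right _) (ha ▸ k1.mul_left _)
      · obtain ⟨a, ha⟩ := (o M).1 (.inr k5)
        exact adj_of_orderOf a (ha ▸ h.trans k3) (ha ▸ k1.trans k2)
  rcases h2 with h | h | h
  · exact absurd (h.mul_right _) c
  · rw [show (u + 1) ^ 4 - 1 = u * (u + 2) * ((u + 1) ^ 2 + 1) from Nat.sub_eq_of_eq_add (by ring)] at h
    have k1 := (hs.dvd_mul.1 h).resolve_left fun k => c (k.mul_left _)
    obtain ⟨a, ha⟩ := (o ((u + 1) ^ 2 + 1)).2 (by simp)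
    by_cases k2 : b ∣ u + 1
    · exact adj_of_orderOf a (ha ▸ (bp k2).mul_right _) (ha ▸ k1.mul_left _)
    rcases hb.eq_two_or_odd' with rfl | b2
    · exact adj_of_orderOf a (ha ▸ Dvd.dvd.mul_left (even_iff_two_dvd.1 (Odd.add_one (Odd.pow
        (Nat.odd_iff.2 (by omega))))) _) (ha ▸ k1.mul_left _)
    have s2 : Odd s := hs.odd_of_ne_two (by
      rintro rfl
      exact c (by rw [← e2]; exact (by norm_num : 2 ∣ 6).trans (six_dvd _)))
    obtain ⟨a, ha⟩ := (o (b * s)).1 (.inl ⟨b2.mul s2, by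
      have := Int.natCast_dvd_natCast.2 (Nat.mul_dvd_mul ((hb.dvd_mul.1 h1).resolve_left k2) k1)
      rwa [show ((u * (u + 2) * ((u + 1) ^ 2 + 1) : ℕ) : ℤ) = ((u : ℤ) + 1) ^ 4 - 1 by
        push_cast; ring] at this⟩)
    exact adj_of_orderOf a (ha ▸ dvd_mul_right _ _) (ha ▸ dvd_mul_left _ _)
  · rw [show (u + 1) ^ 6 - 1 = u * (u ^ 2 + 3 * u + 3) * ((u + 2) * (u ^ 2 + u + 1)) from
      Nat.sub_eq_of_eq_add (by ring)] at h
    rcases hs.dvd_mul.1 h with h | h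
    · exact key _ (u * (u ^ 2 + 3 * u + 3) * (u + 2)) h (dvd_mul_right _ _) ⟨u ^ 2 + 3 * u + 3, by ring⟩
        (List.mem_cons.2 (.inl (by push_cast; ring))) (List.mem_cons.2 (.inl (by push_cast; ring)))
    · exact key _ ((u + 2) * (u ^ 2 + u + 1) * u) h (dvd_mul_right _ _) ⟨u ^ 2 + u + 1, by ring⟩
        (List.mem_cons_of_mem _ (List.mem_cons.2 (.inl (by push_cast; ring))))
        (List.mem_cons_of_mem _ (List.mem_cons.2 (.inl (by push_cast; ring))))

open Cfsg.Agent.Chev Cfsg.Agent.Chev.E6 in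
theorem exists_F4_2E6 {K : Type} [Field K] [Fintype K] {q : ℕ} (hq : IsPrimePow q)
    (hK : Fintype.card K = q ^ 2) : ∃ (F : Type) (_ : Field F) (_ : Fintype F), Fintype.card F = q ∧
      ∃ f : chevF4.group F →* twistedE6 K q, Function.Injective f := by
  obtain ⟨S, φ, hφ, h, hT⟩ := E6.exists_data hq hK
  let F₀ : Subfield K := RingHom.eqLocusField φ (RingHom.id K)
  have := Fintype.ofFinite F₀
  have hcard : Fintype.card F₀ = q := by
    rw [← Nat.card_eq_fintype_card, ← card_fixed hq.one_lt.le hK]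
    exact Nat.card_congr (Equiv.subtypeEquivRight fun t => by rw [← h]; rfl)
  let ι : F₀ →+* K := F₀.subtype
  obtain ⟨Φ, hΦ, hx, -⟩ := exists_F4_E6 (F := K)
  let Ψ : chevF4.group F₀ →* chevE6.group K := Φ.comp (fieldHom chevF4 ι)
  have hΨ : Function.Injective Ψ := hΦ.comp (fieldHom_injective ι)
  have hΨx : ∀ r < chevF4.nroots, ∀ t, Ψ (xC chevF4 F₀ r t) =
      foldX (xC chevE6 K) orbF4 r (ι t) := fun r hr t => by
    rw [← hx r hr, ← fieldHom_xC]; rfl
  have hι : ∀ t, φ (ι t) = ι t := fun t => t.2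
  have hΨT : Ψ.range ≤ (tw S φ hφ).data.T := by
    refine range_le_of_simple rootTableF4 Ψ (fun (i : Fin 4) t => ?_) fun (i : Fin 4) t => ?_
    · fin_cases i
      · exact E6.par_pos_mem S _ hφ (a := 3)
          ⟨ι t, (hΨx 33 (by decide) t).trans (by simp [foldX, orbF4, hι])⟩
      · exact E6.par_pos_mem S _ hφ (a := 2)
          ⟨ι t, (hΨx 27 (by decide) t).trans (by simp [foldX, orbF4, hι])⟩
      · exact E6.par_pos_mem S _ hφ (a := 1)
          ⟨ι t, hι t, (hΨx 25 (by decide) t).trans (by simp [foldX, orbF4])⟩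
      · exact E6.par_pos_mem S _ hφ (a := 0)
          ⟨ι t, hι t, (hΨx 24 (by decide) t).trans (by simp [foldX, orbF4])⟩
    · fin_cases i
      · exact E6.par_neg_mem S _ hφ (a := 3)
          ⟨ι t, (hΨx 14 (by decide) t).trans (by simp [foldX, orbF4, hι])⟩
      · exact E6.par_neg_mem S _ hφ (a := 2)
          ⟨ι t, (hΨx 20 (by decide) t).trans (by simp [foldX, orbF4, hι])⟩
      · exact E6.par_neg_mem S _ hφ (a := 1)
          ⟨ι t, hι t, (hΨx 22 (by decide) t).trans (by simp [foldX, orbF4])⟩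
      · exact E6.par_neg_mem S _ hφ (a := 0)
          ⟨ι t, hι t, (hΨx 23 (by decide) t).trans (by simp [foldX, orbF4])⟩
  refine ⟨F₀, inferInstance, this, hcard, ((chevE6.group K).subtype.comp Ψ).codRestrict _ fun a => ?_,
    fun a b e => hΨ (Subtype.ext (congrArg Subtype.val e :))⟩
  exact Subgroup.mem_subgroupOf.1 (hT.ge (hΨT ⟨a, rfl⟩))

end Cfsg.Agent.ARS
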