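import Cfsg.Agent.ARS.ChCy
import Cfsg.Agent.ARS.F4
import Cfsg.Agent.S1066
import Cfsg.Agent.S1062

/-!
S4185: cyclic Sylow subgroups of `²E₆(q)`.  If `s ∤ q^8 - 1` and `s ∤ q^12 - 1` use `cy_E6` for the field
with `q²` elements and `Cy.of_inj` (`twistedE6 F q ≤ chevE6.group F`, `le_group`, `Subgroup.inclusion`).
Otherwise `e = ord_s(q)` divides `8` or `12` but not `4`, `6`, so `e ∤ 10`, `e ∤ 18`, and `s` does not divide
`q^12 (q^5+1) (q^9+1) = gcd(3,q+1) · index` of `F₄(q)` (`exists_F4_2E6`, orders S1066, S1062):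
`cy_F4`, `Cy.of_index`.
-/

set_option autoImplicit false
set_option linter.unusedSectionVars false

namespace Cfsg.Agent.ARS

open Cfsg Cfsg.Agent.NPQ Cfsg.Lie

theorem cy_2E6 {F : Type} [Field F] [Fintype F] {q s : ℕ} (hq : IsPrimePow q)
    (hF : Fintype.card F = q ^ 2) (hs : s.Prime) (h : ¬ (s ∣ q ∨ s ∣ q ^ 4 - 1 ∨ s ∣ q ^ 6 - 1)) :
    Cy (twistedE6 F q) s := by
  have h2 := hq.two_le
  by_cases c : s ∣ q ^ 8 - 1 ∨ s ∣ q ^ 12 - 1
  · obtain ⟨E, _, _, hE, f, hf⟩ := exists_F4_2E6 hq hF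
    have h1 := S1066.result hq hF
    have h3 := S1062.result hE
    have pos : ∀ n, n ≠ 0 → 0 < q ^ n - 1 := fun n hn => Nat.sub_pos_of_lt (Nat.one_lt_pow hn h2)
    have p0 : 0 < Nat.card (chevF4.group E) := by
      rw [h3]
      have := pos 2; have := pos 6; have := pos 8; have := pos 12
      exact Nat.mul_pos (Nat.mul_pos (Nat.mul_pos (Nat.mul_pos (by positivity) (by omega)) (by omega)) (by omega)) (by omega)
    have p1 : Nat.card (twistedE6 F q) ≠ 0 := fun e => by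
      rw [e, mul_zero, show q ^ 36 * (q ^ 2 - 1) * (q ^ 5 + 1) * (q ^ 6 - 1) * (q ^ 8 - 1) * (q ^ 9 + 1) * (q ^ 12 - 1) =
        q ^ 12 * (q ^ 5 + 1) * (q ^ 9 + 1) * Nat.card (chevF4.group E) by rw [h3]; ring] at h1
      exact absurd h1 (by positivity : 0 < _).ne
    have := Nat.finite_of_card_ne_zero p0.ne'
    have := Nat.finite_of_card_ne_zero p1
    refine (cy_F4 hE hs h).of_index hs f fun d => h ?_
    have e : Nat.gcd 3 (q + 1) * f.range.index = q ^ 12 * (q ^ 5 + 1) * (q ^ 9 + 1) :=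
      Nat.eq_of_mul_eq_mul_right p0 (by
        rw [mul_assoc, Nat.card_congr (MonoidHom.ofInjective hf).toEquiv, Subgroup.index_mul_card, h1,
          ← Nat.card_congr (MonoidHom.ofInjective hf).toEquiv, h3]
        ring)
    have k : ∀ n, s ∣ q ^ n + 1 → orderOf (q : ZMod s) ∣ 2 * n := fun n d =>
      (dvd_pow_sub_one_iff (by omega)).1 (d.trans ⟨q ^ n - 1, by rw [mul_comm 2, pow_mul, ← Nat.sq_sub_sq, one_pow]⟩)
    simp only [dvd_pow_sub_one_iff (by omega : 1 ≤ q)] at c ⊢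
    rcases hs.dvd_mul.1 (e ▸ d.mul_left _) with d | d
    · rcases hs.dvd_mul.1 d with d | d
      · exact .inl (hs.dvd_of_dvd_pow d)
      · exact .inr (.inl ((c.elim (Nat.dvd_gcd (k 5 d)) (Nat.dvd_gcd (k 5 d)) : _ ∣ 2).trans (by norm_num)))
    · exact .inr (.inr (c.elim (fun c => (Nat.dvd_gcd (k 9 d) c).trans (by norm_num)) (Nat.dvd_gcd (k 9 d))))
  · refine (cy_E6 hF hs fun d => ?_).of_inj _ (Subgroup.inclusion_injective Chev.E6.le_group)
    rw [← pow_mul, ← pow_mul] at d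
    exact d.elim (fun d => h (.inl (hs.dvd_of_dvd_pow d))) c

end Cfsg.Agent.ARS
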