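import Cfsg.Agent.ARS.OutA
import Cfsg.Agent.ARS.CyA
import Cfsg.Agent.NPQ.FldT
import Cfsg.Agent.NPQ.FldR
import Cfsg.Agent.K.OutExc

/-!
S4185: `Out` of the twisted groups.  For a `TwMap` the proof of `fld_twMap` (NPQ/FldT) gives
`Φ : (F ≃+* F) →* MulAut T'` (`exists_resField`) with `Φ f ∈ Inn → f = 1`; extract that as a lemma and
instantiate it as in `fldAll_2E6`, `fldAll_3D4`, `fldAll_2F4`, `fldAll_Ree`.  `³D₄`, `²F₄`, `²G₂`:
`|Out| = |Aut F|` (S2129, S2128, S2127), `isCyclic_out_of_field`, `K.isCyclic_ringEquiv`.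
`²E₆`: `C` = range of `mk' ∘ Φ` is cyclic of index `gcd(3, q+1)` (S2130): `Cy.of_index`.  With `Δ` from
`exists_resDiag`, `exists_decomp` and `res_comm` (Chev/TwRes, see `TwMap.diagField`, `diagField_E6`) the
range `A` of `mk' ∘ Δ` is abelian, normalized by `C`, and `A ⊔ C = ⊤`: `card_comm_of`.
`card_comm_of`: `C = ⟨φ⟩`; `a ↦ a φ a⁻¹ φ⁻¹` is a hom `A → A` that is trivial on `A ⊓ C`; its range `B` has
order dividing `C.relIndex A = C.index`, is normal, and `O ⧸ B` is generated by commuting elements, so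
`commutator O ≤ B`.
-/

set_option autoImplicit false
set_option linter.unusedSectionVars false

namespace Cfsg.Agent.ARS

open Cfsg Cfsg.Agent.NPQ Cfsg.Lie Cfsg.Agent.Chev Subgroup
open scoped commutatorElement

theorem card_comm_of {O : Type*} [Group O] [Finite O] (A C : Subgroup O) [A.Normal]
    (hA : IsMulCommutative A) (hC : IsCyclic C) (h : A ⊔ C = ⊤) :
    Nat.card (commutator O) ∣ C.index := by
  obtain ⟨φ, hφ⟩ := IsCyclic.exists_generator (α := C)
  have cA : ∀ a ∈ A, ∀ b ∈ A, a * b = b * a := fun a ha b hb =>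
    congrArg Subtype.val (hA.1.1 ⟨a, ha⟩ ⟨b, hb⟩)
  have cC : C ≤ zpowers (φ : O) := fun c hc => by
    obtain ⟨k, hk⟩ := hφ ⟨c, hc⟩
    exact ⟨k, congrArg Subtype.val hk⟩
  have nA : ∀ a ∈ A, φ * a * (φ : O)⁻¹ ∈ A := fun a ha => ‹A.Normal›.conj_mem a ha φ
  have mA : ∀ a ∈ A, ⁅a, (φ : O)⁆ ∈ A := fun a ha => by
    simpa only [commutatorElement_def, mul_assoc] using mul_mem ha (nA _ (inv_mem ha))
  let f : A →* O := MonoidHom.mk' (fun a => ⁅(a : O), (φ : O)⁆) fun a b => by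
    have := cA _ (mA _ b.2) _ (nA _ (inv_mem a.2))
    calc ⁅(a * b : O), (φ : O)⁆ = a * (⁅(b : O), (φ : O)⁆ * (φ * (a : O)⁻¹ * (φ : O)⁻¹)) := by
          simp only [commutatorElement_def]; group
      _ = _ := by rw [this]; simp only [commutatorElement_def]; group
  have n : f.range.Normal := by
    rw [← normalizer_eq_top_iff, eq_top_iff, ← h]
    refine sup_le (fun a ha => mem_normalizer_fintype ?_) (cC.trans (zpowers_le.2 (mem_normalizer_fintype ?_)))
    · rintro _ ⟨b, rfl⟩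
      exact ⟨b, eq_mul_inv_of_mul_eq (cA a ha _ (mA _ b.2)).symm⟩
    · rintro _ ⟨b, rfl⟩
      refine ⟨⟨_, nA _ b.2⟩, ?_⟩
      change ⁅(φ : O) * (b : O) * (φ : O)⁻¹, (φ : O)⁆ = (φ : O) * ⁅(b : O), (φ : O)⁆ * (φ : O)⁻¹
      simp only [commutatorElement_def]; group
  let π := QuotientGroup.mk' f.range
  have k : ∀ a ∈ A, π a * π φ = π φ * π a := fun a ha => by
    rw [← commutatorElement_eq_one_iff_mul_comm, ← map_commutatorElement]
    exact (QuotientGroup.eq_one_iff _).2 ⟨⟨a, ha⟩, rfl⟩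
  have z : ∀ x, (∀ a ∈ A, π a * π x = π x * π a) → π φ * π x = π x * π φ → π x ∈ center _ := by
    intro x h1 h2
    have : ⊤ ≤ (centralizer {π x}).comap π := by
      rw [← h]
      exact sup_le (fun a ha => mem_centralizer_singleton_iff.2 (h1 a ha))
        (cC.trans (zpowers_le.2 (mem_centralizer_singleton_iff.2 h2)))
    refine mem_center_iff.2 fun y => ?_
    obtain ⟨y, rfl⟩ := QuotientGroup.mk'_surjective _ y
    exact mem_centralizer_singleton_iff.1 (this (mem_top y))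
  have t : ⊤ ≤ (center _).comap π := by
    rw [← h]
    exact sup_le (fun a ha => z a (fun b hb => by rw [← map_mul, cA b hb a ha, map_mul]) (k a ha).symm)
      (cC.trans (zpowers_le.2 (z _ k rfl)))
  have le : commutator O ≤ f.range := commutator_le.2 fun x _ y _ => (QuotientGroup.eq_one_iff _).1 (by
    change π ⁅x, y⁆ = 1
    rw [map_commutatorElement, commutatorElement_eq_one_iff_mul_comm]
    exact mem_center_iff.1 (t (mem_top y)) _)
  have e1 : A.relIndex C = A.index := by rw [← relIndex_sup_left, h, relIndex_top_right]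
  have e2 := relIndex_mul_index (inf_le_left : A ⊓ C ≤ A)
  have e3 := relIndex_mul_index (inf_le_right : A ⊓ C ≤ C)
  rw [inf_relIndex_left] at e2
  rw [inf_relIndex_right, e1, ← e2, mul_comm] at e3
  refine (card_dvd_of_le le).trans ?_
  rw [Nat.eq_of_mul_eq_mul_right (Nat.pos_of_ne_zero index_ne_zero_of_finite) e3, ← index_ker]
  refine index_dvd_of_le fun a ha => ?_
  obtain ⟨i, hi⟩ := cC ha
  change ⁅(a : O), (φ : O)⁆ = 1
  rw [commutatorElement_eq_one_iff_commute]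
  rw [← show (φ : O) ^ i = a from hi]
  exact (Commute.refl _).zpow_left i

theorem two_inj {D : ChevalleyDatum} [Good D] {F : Type} [Field F] [Finite F] {T : RootTable D}
    {S : ChevSys T (xC D F)} {ι : Type} (M : TwMap S ι) {T' : Type} [Group T']
    (j : T' →* D.group F) (hr : j.range = M.data.T)
    (hreg : RegSet D F M.data.T) (y : F → D.group F)
    (hy : Function.Injective y) (hyT : ∀ t, y t ∈ M.data.T)
    (hyf : ∀ f t, fieldAut D F f (y t) = y (f t)) {Φ : (F ≃+* F) →* MulAut T'}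
    (hΦ : ∀ f g, j (Φ f g) = fieldAut D F f (j g)) (f : F ≃+* F) (hf : Φ f ∈ Inn T') : f = 1 := by
  refine RingEquiv.ext fun t => ?_
  obtain ⟨g, hg⟩ := hf
  have e : ∀ x, j x = j g⁻¹ * diagAut D F 1 (fieldAut D F f (j x)) * (j g⁻¹)⁻¹ := fun x => by
    rw [← hΦ, ← hg]; simp [mul_assoc]
  have h3 := hreg.conj_mul_diag T (g := j g⁻¹) (c := 1) fun u hu hf => by
    obtain ⟨x, rfl⟩ := M.data.exists_j j hr hu
    rw [← hf f, ← e, hf]
  obtain ⟨x, hx⟩ := M.data.exists_j j hr (hyT t)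
  refine hy (((hyf f t).symm.trans ?_))
  rw [← hx]
  exact ((e x).trans (DFunLike.congr_fun h3 (fieldAut D F f (j x)))).symm.trans hx

theorem two_out {G F : Type*} [Group G] [Finite G] [Field F] [Finite F] {X : Type*} [CommGroup X]
    (Φ : (F ≃+* F) →* MulAut G) (Δ : X →* MulAut G) (hi : ∀ f, Φ f ∈ Inn G → f = 1)
    (hc : ∀ f, ∃ n : ℕ, ∀ c, Φ f * Δ c = Δ (c ^ n) * Φ f)
    (hd : ∀ θ : MulAut G, ∃ g c f, θ = MulAut.conj g * (Δ c * Φ f)) {d : ℕ} (h3 : d ∣ 3)
    (hm : Nat.card (Out G) = d * Nat.card (F ≃+* F)) :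
    Cy (Out G) 2 ∧ Nat.card (commutator (Out G)) ∣ 3 := by
  have := K.isCyclic_ringEquiv F
  let f : (F ≃+* F) →* Out G := (QuotientGroup.mk' _).comp Φ
  let δ : X →* Out G := (QuotientGroup.mk' _).comp Δ
  have inj : Function.Injective f :=
    (injective_iff_map_eq_one f).2 fun σ e => hi σ ((QuotientGroup.eq_one_iff _).1 e)
  have hx : f.range.index = d := by
    rw [← f.range.index_mul_card, ← Nat.card_congr (f.ofInjective inj).toEquiv] at hm
    exact Nat.eq_of_mul_eq_mul_right Nat.card_pos hm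
  have dec : ∀ y : Out G, ∃ c σ, y = δ c * f σ := fun y => by
    obtain ⟨θ, rfl⟩ := QuotientGroup.mk_surjective y
    obtain ⟨g, c, σ, rfl⟩ := hd θ
    exact ⟨c, σ, by rw [QuotientGroup.mk_mul, K.mk_conj, one_mul]; rfl⟩
  have : δ.range.Normal := ⟨by
    rintro _ ⟨a, rfl⟩ y
    obtain ⟨c, σ, rfl⟩ := dec y
    obtain ⟨n, hn⟩ := hc σ
    have e : f σ * δ a = δ (a ^ n) * f σ := congrArg (QuotientGroup.mk' (Inn G)) (hn a)
    exact ⟨c * a ^ n * c⁻¹, by rw [mul_assoc (δ c), e, map_mul, map_mul, map_inv]; group⟩⟩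
  refine ⟨Cy.of_index (fun _ _ => inferInstance) Nat.prime_two f fun c => ?_,
    (card_comm_of δ.range f.range inferInstance (isCyclic_of_surjective _ f.rangeRestrict_surjective)
      (eq_top_iff.2 fun y _ => ?_)).trans (hx ▸ h3)⟩
  · exact absurd (c.trans (hx ▸ h3)) (by norm_num)
  · obtain ⟨c, σ, rfl⟩ := dec y
    exact mul_mem_sup ⟨c, rfl⟩ ⟨σ, rfl⟩

attribute [local instance] goodD4 goodE6 goodF4

variable {F : Type} [Field F] [Fintype F] {q m : ℕ}

theorem cyclic_out_3D4 (hq : IsPrimePow q) (hF : Fintype.card F = q ^ 3) :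
    IsCyclic (Out (twistedD4 F q)) := by
  have : Fact (ringChar F).Prime := ⟨CharP.char_is_prime F _⟩
  obtain ⟨S, φ, hφ, h, hT⟩ := D4.exists_data hq hF
  have hj := Subgroup.inclusion_injective (D4.le_group (K := F) (q := q))
  have hr := TwistData.range_inclusion _ D4.le_group hT
  have := S.finite
  have := Finite.of_injective _ hj
  have := K.isCyclic_ringEquiv F
  obtain ⟨Φ, hΦ⟩ := (D4.tw S φ hφ).exists_resField _ hj hr h
  refine isCyclic_out_of_field Φ (two_inj (D4.tw S φ hφ) _ hr ⟨fun (i : Fin 4) => ?_, fun (i : Fin 4) => ?_⟩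
    (fun t => xC chevD4 F 18 t * xC chevD4 F 13 (φ t) * xC chevD4 F 12 (φ (φ t)))
    (fun _ _ e => (S.inj₃ rootTableD4.nil_pos (by decide +kernel) (by decide +kernel)
      (by decide +kernel) (by decide) e).1) (fun t => D4.par_pos_mem S φ hφ (a := 0) ⟨t, rfl⟩)
    (fun f t => by simp [h]) hΦ) (D4.card_Out S φ hφ h hF hq.two_le _ hj hr (ringChar F))
  · refine ⟨![[18, 13, 12], [14]] (oD4 i), fun _ => 1, by revert i; decide +kernel,
      D4.par_pos_mem S φ hφ (a := oD4 i) ?_⟩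
    generalize oD4 i = a
    fin_cases a
    exacts [⟨1, by simp [mul_assoc]⟩, ⟨1, map_one φ, by simp⟩]
  · refine ⟨![[5, 10, 11], [9]] (oD4 i), fun _ => 1, by revert i; decide +kernel,
      D4.par_neg_mem S φ hφ (a := oD4 i) ?_⟩
    generalize oD4 i = a
    fin_cases a
    exacts [⟨1, by simp [mul_assoc]⟩, ⟨1, map_one φ, by simp⟩]

theorem cyclic_out_2F4 (hm : 1 ≤ m) (hF : Fintype.card F = 2 ^ (2 * m + 1)) :
    IsCyclic (Out (twistedF4 F (2 ^ m))) := by
  obtain ⟨_, S, θ, hθ, h, hT⟩ := F4.exists_data hF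
  have hj := Subgroup.inclusion_injective (F4.le_group (K := F) (e := 2 ^ m))
  have hr := TwistData.range_inclusion _ F4.le_group hT
  have := S.finite
  have := Finite.of_injective _ hj
  have := K.isCyclic_ringEquiv F
  have h2 : ∀ a u, F4.par (xC chevF4 F) θ 24 33 [27, 25, 28, 30] a u → u ∈ (F4.tw S θ hθ).data.T :=
    fun a u hu => (F4.tw S θ hθ).data.mem_T_of_UJ (a := a)
      ((F4.tw S θ hθ).UJ_eq a ▸ ((F4.fix_pos S θ hθ a u).2 hu).1) ((F4.fix_pos S θ hθ a u).2 hu).2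
  have h3 : ∀ a u, F4.par (xC chevF4 F) θ 23 14 [20, 22, 19, 17] a u → u ∈ (F4.tw S θ hθ).data.T :=
    fun a u hu => (F4.tw S θ hθ).data.mem_T_of_VJ (a := a)
      ((F4.tw S θ hθ).VJ_eq a ▸ ((F4.fix_neg S θ hθ a u).2 hu).1) ((F4.fix_neg S θ hθ a u).2 hu).2
  obtain ⟨Φ, hΦ⟩ := (F4.tw S θ hθ).exists_resField _ hj hr h
  refine isCyclic_out_of_field Φ (two_inj (F4.tw S θ hθ) _ hr ⟨fun (i : Fin 4) => ?_, fun (i : Fin 4) => ?_⟩
    (fun t => xC chevF4 F 24 t * xC chevF4 F 33 (θ t))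
    (fun _ _ e => (S.inj₂ rootTableF4.nil_pos (by decide +kernel) (by decide +kernel)
      (by decide) e).1) (fun t => h2 0 _ ⟨t, rfl⟩)
    (fun f t => by simp [h]) hΦ) (F4.card_Out S θ hθ h (F4.two_lt hm hF) _ hj hr)
  · refine ⟨![[24, 33], [27, 25, 28, 30]] (oF4 i), fun r => if r = 30 then 0 else 1,
      by revert i; decide +kernel, h2 (oF4 i) _ ?_⟩
    generalize oF4 i = a
    fin_cases a
    exacts [⟨1, by simp⟩, ⟨1, 0, by simp⟩]
  · refine ⟨![[23, 14], [20, 22, 19, 17]] (oF4 i), fun r => if r = 17 then 0 else 1,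
      by revert i; decide +kernel, h3 (oF4 i) _ ?_⟩
    generalize oF4 i = a
    fin_cases a
    exacts [⟨1, by simp⟩, ⟨1, 0, by simp⟩]

theorem cyclic_out_Ree (hm : 1 ≤ m) (hF : Fintype.card F = 3 ^ (2 * m + 1)) :
    IsCyclic (Out (twistedG2 F (3 ^ m))) := by
  obtain ⟨R, -, -, -, h⟩ := Ree.exists_sys hF
  obtain ⟨Φ, -, -, h⟩ := K.exists_reeField R hm h
  have := K.isCyclic_ringEquiv F
  refine isCyclic_of_surjective ((QuotientGroup.mk' _).comp Φ) fun y => ?_
  obtain ⟨θ, rfl⟩ := QuotientGroup.mk_surjective y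
  obtain ⟨g, σ, rfl⟩ := h θ
  exact ⟨σ, by rw [QuotientGroup.mk_mul, K.mk_conj, one_mul]; rfl⟩

theorem out_2E6 (hq : IsPrimePow q) (hF : Fintype.card F = q ^ 2) :
    Cy (Out (twistedE6 F q)) 2 ∧ Nat.card (commutator (Out (twistedE6 F q))) ∣ 3 := by
  have : Fact (ringChar F).Prime := ⟨CharP.char_is_prime F _⟩
  obtain ⟨S, φ, hφ, h, hT⟩ := E6.exists_data hq hF
  have hj := Subgroup.inclusion_injective (E6.le_group (K := F) (q := q))
  have hr := TwistData.range_inclusion _ E6.le_group hT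
  have := S.finite
  have := Finite.of_injective _ hj
  obtain ⟨Φ, hΦ⟩ := (E6.tw S φ hφ).exists_resField _ hj hr h
  obtain ⟨Δ, hΔ⟩ := (E6.tw S φ hφ).exists_resDiag _ hj hr
  refine two_out Φ Δ (two_inj (E6.tw S φ hφ) _ hr ⟨fun (i : Fin 6) => ?_, fun (i : Fin 6) => ?_⟩
    (fun t => xC chevE6 F 42 t * xC chevE6 F 37 (φ t))
    (fun _ _ e => (S.inj₂ rootTableE6.nil_pos (by decide +kernel) (by decide +kernel)
      (by decide) e).1) (fun t => E6.par_pos_mem S φ hφ (a := 2) ⟨t, rfl⟩) (fun f t => by simp [h]) hΦ)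
    (fun f => (exists_pow_of_ringEquiv f).imp fun n hn => (E6.tw S φ hφ).res_comm _ hj hΦ hΔ f hn)
    ((E6.tw S φ hφ).exists_decomp _ hj hr (ringChar F)
      (fun _ => E6.exists_diag_field S φ hφ h hF hq.two_le _ hj hr) hΦ hΔ)
    (Nat.gcd_dvd_left 3 (q + 1)) (E6.card_Out S φ hφ h hF hq.two_le _ hj hr (ringChar F))
  · refine ⟨![[46], [39], [42, 37], [56, 36]] (oE6 i), fun _ => 1, by revert i; decide +kernel,
      E6.par_pos_mem S φ hφ (a := oE6 i) ?_⟩
    generalize oE6 i = a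
    fin_cases a
    exacts [⟨1, map_one φ, by simp⟩, ⟨1, map_one φ, by simp⟩, ⟨1, by simp⟩, ⟨1, by simp⟩]
  · refine ⟨![[25], [32], [29, 34], [15, 35]] (oE6 i), fun _ => 1, by revert i; decide +kernel,
      E6.par_neg_mem S φ hφ (a := oE6 i) ?_⟩
    generalize oE6 i = a
    fin_cases a
    exacts [⟨1, map_one φ, by simp⟩, ⟨1, map_one φ, by simp⟩, ⟨1, by simp⟩, ⟨1, by simp⟩]

end Cfsg.Agent.ARS
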