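import Cfsg.Agent.ARS.OutA
import Cfsg.Agent.ARS.GL2
import Cfsg.Agent.NPQ.U3

/-!
S4185: `K = U₃(q)`, `q = p^f > 2`, `d = gcd(3, q+1)`; `φ` from S2603 (cyclic target, kernel of order `d`;
see `fldAll_PSU`/`K.copFacts_PSU` for `q = p^f`).  `d = 1`: `φ` injective, `lf_of_cyclic`.  `d = 3`:
`lf_of_three`; `commutator ≤ ker φ`; `FB` by `fb_of_cy`, `cy_of_proj`.  Let `s ≠ 3`, `¬ Cy K s`.
* `s ∤ q`: `s ∣ q + 1` (`s = 2`: `q` odd; `s` odd: `Cy.quot`, `two_le_SU` gives `i = 1`).  Take `c ∈ Fˣ` of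
  order `s` (`c^(q+1) = 1`), `diag (c, c, c⁻²) ∈ SU₃` is non-scalar (`c³ ≠ 1`) and commutes with the block
  image of an element of order `3` of `SU₂` (`dvd_card_SU`, `su_blk`, `su_cen`; see NPQ/U3, case `9 ∣ q+1`).
* `s = p`: `sm_PSU3` gives `Pr K p 3`; exclude `Ab K p`: `not_ab_PSU3` (a Sylow `p`-subgroup of order `q³`
  is non-abelian: `ca find PSU 3`, S1141, Class/*; or avoid it by repeating the cases `9 ∣ q+1`,
  `9 ∤ q+1` of `sm_PSU3`, whose auxiliary lemmas in NPQ/U3 give `Adj` resp. `Fld K 3 p` directly).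
`2, 3 ∣ |K|`: S0280, or from an `Adj`.
-/

set_option autoImplicit false
set_option linter.unusedSectionVars false

namespace Cfsg.Agent.ARS

open Cfsg Cfsg.Agent.NPQ Matrix

namespace U3A

open KSG Cfsg.Agent.K Class.U NPQ.U3

variable {F : Type} [Field F] [Fintype F] {q a b : ℕ} (hF : Fintype.card F = q ^ 2)
include hF

theorem adj' (ha : a.Prime) (hb : b.Prime) (h : a ∣ Nat.card (SU 2 F q)) {c : F} (h1 : c ^ (q + 1) = 1)
    (h3 : c ^ 3 ≠ 1) (hk : c ^ b = 1) : Adj (PSU 3 F q) a b := by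
  have := UF.of_card hF
  have := Fact.mk ha
  obtain ⟨j, hj, hc⟩ := exists_j hF
  obtain ⟨u, hu⟩ := exists_prime_orderOf_dvd_card' a h
  have c0 : c ≠ 0 := by rintro rfl; simp at h1
  have iv : ∀ n, c ^ n = 1 → (c⁻¹ ^ 2) ^ n = 1 := fun n e => by
    rw [pow_right_comm, inv_pow, e, inv_one, one_pow]
  refine AdjZ.quot ⟨j u, ⟨⟨diagonal ![c, c, c⁻¹ ^ 2], ?_⟩, pres_diag h1 (iv _ h1)⟩,
    Subtype.ext (Subtype.ext ?_), ⟨1, ?_⟩, ⟨1, Subtype.ext (Subtype.ext ?_)⟩, fun e => ha.ne_one ?_,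
    fun e => h3 ?_⟩ ha hb
  · rw [det_diagonal, Fin.prod_univ_three]
    change c * c * c⁻¹ ^ 2 = 1
    field_simp
  · change (j u).1.1 * _ = _ * (j u).1.1
    rw [hj]
    exact jm_diag _ _
  · rw [pow_one, ← map_pow, ← hu, pow_orderOf_eq_one, map_one]
  · refine (Matrix.SpecialLinearGroup.coe_pow _ _).trans ?_
    change diagonal _ ^ _ = 1
    rw [diagonal_pow, ← diagonal_one, pow_one]
    congr 1
    ext i
    fin_cases i
    exacts [hk, hk, iv _ hk]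
  · rw [← hu, hc u e, orderOf_one]
  · obtain ⟨e, he⟩ := su_cen hF (by omega) e
    have e1 : c = e := by simpa using congrFun₂ he 0 0
    have e2 : c⁻¹ ^ 2 = e := by simpa using congrFun₂ he 2 2
    rw [← e1] at e2
    field_simp at e2
    exact e2.symm

theorem dvd_K (h : a ∣ Nat.card (SU 2 F q)) : a ∣ Nat.card (PSU 3 F q) := by
  obtain ⟨j, -, hc⟩ := exists_j hF
  exact h.trans (Subgroup.card_dvd_of_injective ((QuotientGroup.mk' _).comp j)
    ((injective_iff_map_eq_one _).2 fun x e => hc x ((QuotientGroup.eq_one_iff _).1 e)))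

theorem dvd_SU2 (ha : a.Prime) (h : a ∣ q + 1) : a ∣ Nat.card (SU 2 F q) :=
  dvd_card_SU hF le_rfl ha (.inr ⟨2, le_rfl, le_rfl, even_two, by
    rw [show q ^ 2 - 1 = (q + 1) * (q - 1) by simpa using Nat.sq_sub_sq q 1]
    exact h.mul_right _⟩)

theorem dvd_succ (ha : a.Prime) (h : ¬ a ∣ q) (hc : ¬ Cy (PSU 3 F q) a) : a ∣ q + 1 := by
  by_cases h2 : a = 2
  · subst h2
    omega
  obtain ⟨i, h3, h4, h5⟩ := two_le_SU (n := 3) hF ha h2 h fun c => hc (c.quot ha)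
  obtain rfl : i = 1 := by omega
  rw [← ZMod.natCast_eq_zero_iff]
  push_cast
  linear_combination -h5

theorem three (hq : q ≠ 2) (d3 : 3 ∣ q + 1) (ha : a.Prime) (h3 : a ≠ 3) (hc : ¬ Cy (PSU 3 F q) a) :
    Adj (PSU 3 F q) 3 a ∨ Fld (PSU 3 F q) 3 a := by
  by_cases h : a ∣ q
  · by_cases c' : 9 ∣ q + 1
    · obtain ⟨ω, hω⟩ := exists_ord hF c'
      have k : ∀ n, (ω : F) ^ n = 1 ↔ 9 ∣ n := fun n => by
        rw [← Units.val_pow_eq_pow_val, Units.val_eq_one, ← orderOf_dvd_iff_pow_eq_one, hω]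
      exact .inl (adj hF ha Nat.prime_three (.inr h) ((k _).2 c') (mt (k _).1 (by decide)) (k := 2)
        ((k _).2 (by decide))).symm
    · exact .inr (fld2 hF hq ha (.inr h) (r := q / 3) (by omega) (by omega))
  · have d := dvd_succ hF ha h hc
    obtain ⟨ω, hω⟩ := exists_ord hF d
    have k : ∀ n, (ω : F) ^ n = 1 ↔ a ∣ n := fun n => by
      rw [← Units.val_pow_eq_pow_val, Units.val_eq_one, ← orderOf_dvd_iff_pow_eq_one, hω]
    exact .inl (adj' hF Nat.prime_three ha (dvd_SU2 hF Nat.prime_three d3) ((k _).2 d)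
      (fun e => h3 ((Nat.prime_dvd_prime_iff_eq ha Nat.prime_three).1 ((k _).1 e))) ((k _).2 dvd_rfl))

end U3A

theorem lf_PSU3 {F : Type} [Field F] [Fintype F] {q : ℕ} (hF : Fintype.card F = q ^ 2) (hq : q ≠ 2) :
    Lf (PSU 3 F q) := by
  have hs : ¬ (3 = 3 ∧ q = 2) := fun e => hq e.2
  obtain ⟨p, hp'⟩ := CharP.exists F
  have hp := CharP.char_is_prime F p
  have := Fact.mk hp
  obtain ⟨f, hf, hq'⟩ := UL.root_eq_pow hp two_ne_zero hF
  obtain ⟨π, -, -, h5⟩ := S2603.result hf hq' hF le_rfl hs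
  have : NeZero (2 * f) := ⟨by omega⟩
  by_cases d3 : 3 ∣ q + 1
  · rw [Nat.gcd_eq_left d3] at h5
    refine lf_of_three ((Subgroup.card_dvd_of_le (Abelianization.commutator_subset_ker π)).trans h5.dvd)
      (fb_of_cy (cy_of_proj Nat.prime_two π (by rw [h5]; decide)))
      (fun s h1 h2 h3 => U3A.three hF hq d3 h1 h2 h3)
      ⟨U3A.dvd_K hF ?_, U3A.dvd_K hF (U3A.dvd_SU2 hF Nat.prime_three d3)⟩
    obtain ⟨u, hu⟩ := U3.exists_u hF Nat.prime_two (.inl rfl)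
    exact hu.symm.dvd.trans (orderOf_dvd_natCard u)
  · rw [(Nat.Prime.coprime_iff_not_dvd Nat.prime_three).2 d3, Subgroup.card_eq_one,
      MonoidHom.ker_eq_bot_iff] at h5
    exact lf_of_cyclic (isCyclic_of_injective π h5)

end Cfsg.Agent.ARS
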