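import Cfsg.Agent.ARS.OutA
import Cfsg.Agent.ARS.GL2
import Cfsg.Agent.NPQ.SU
import Cfsg.Agent.NPQ.FldU
import Cfsg.Agent.S0279

/-!
S4185: `K = U_n(q)`, `n ≥ 4`, `d = gcd(n, q+1)`.  Same as ARS/Ln.
`big_PSU`: if `s ∣ q (q²-1)`: `adjZ_SU_sm`.  Otherwise `s ≠ 2`, `s ∤ q`; `Cy.quot`, `two_le_SU` gives `i` with
`2 i ≤ n`, `(-q)^i = 1` in `ZMod s`, `i ≥ 3` (else `s ∣ q²-1`); `s ∣ |SU_i|` by the order formula S0278
(factor `q^i - (-1)^i`); `adjZ_SU_of_dvd` with `A = n - i`, `B = i`, `dvd_card_SU`.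
`lf_PSU`: `φ` from S2603 (see `fldAll_PSU` for `q = p^f`); `r ∣ d ∣ q + 1 ∣ q²-1`.  `Cen`: a prime `s ≤ n`,
`s ∤ q (q²-1)`, divides `q^(s-1) - 1` (`s - 1` even), so divides `|SU_n| = d |K|` (`dvd_card_SU`, S0279 or
S0280), and `s ∤ d`.
-/

set_option autoImplicit false
set_option linter.unusedSectionVars false

namespace Cfsg.Agent.ARS

open Cfsg Cfsg.Agent.NPQ Matrix

variable {F : Type} [Field F] [Fintype F] {n q b : ℕ}

theorem un_odd {a i : ℕ} (hF : Fintype.card F = q ^ 2) (hi : 3 ≤ i) (ho : Odd i) (h : a ∣ q ^ i + 1) :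
    a ∣ Nat.card (SU i F q) := by
  have e := S0278.result hF i (by omega)
  obtain ⟨A, rfl⟩ := Nat.exists_eq_add_of_le' (show 2 ≤ i by omega)
  rw [Finset.prod_range_succ', if_pos Even.zero, zero_add, pow_one, ← mul_assoc, mul_comm,
    mul_left_inj' (Nat.succ_ne_zero q)] at e
  rw [e]
  refine (h.trans ?_).mul_left _
  have := Finset.dvd_prod_of_mem
    (fun k => if Even (k + 1) then q ^ (k + 1 + 1) + 1 else q ^ (k + 1 + 1) - 1)
    (Finset.mem_range.2 (show A < A + 1 by omega))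
  rwa [if_pos (Nat.even_add_one.2 (Nat.not_even_iff_odd.2 (by
    obtain ⟨k, hk⟩ := ho
    exact ⟨k - 1, by omega⟩)))] at this

theorem un_succ (q : ℕ) : q + 1 ∣ q * (q ^ 2 - 1) := by
  rw [show q ^ 2 - 1 = (q + 1) * (q - 1) by simpa using Nat.sq_sub_sq q 1]
  exact (Dvd.intro _ rfl).mul_left _

theorem big_PSU (hF : Fintype.card F = q ^ 2) (hn : 4 ≤ n) (hb : b.Prime) (h : b ∣ q * (q ^ 2 - 1)) :
    Big (PSU n F q) b := by
  intro s hs _ hc
  by_cases h1 : s ∣ q * (q ^ 2 - 1)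
  · exact (adjZ_SU_sm hF hn hb hs h h1).quot hb hs
  have hq : 1 ≤ q := Nat.pos_of_ne_zero fun e => h1 (by simp [e])
  have h2 : s ≠ 2 := fun e => h1 (dvd_of_small (.inl e))
  have h3 : ¬ s ∣ q := fun e => h1 (e.mul_right _)
  obtain ⟨i, i1, i2, i3⟩ := two_le_SU hF hs h2 h3 fun c => hc (c.quot hs)
  refine (adjZ_SU_of_dvd hF (A := n - i) (B := i) (by omega) hb hs
    (dvd_card_SU hF (by omega) hb ((hb.dvd_mul.1 h).imp id fun c => ⟨2, le_rfl, by omega, even_two, c⟩))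
    ?_).quot hb hs
  rcases Nat.even_or_odd i with e | e
  · have i4 : 2 ≤ i := by obtain ⟨k, hk⟩ := e; omega
    refine dvd_card_SU hF i4 hs (.inr ⟨i, i4, le_rfl, e, (num_sub (Nat.one_le_pow _ _ hq)).2 ?_⟩)
    rw [e.neg_pow] at i3
    exact_mod_cast i3
  · rw [e.neg_pow, neg_eq_iff_eq_neg, ← add_eq_zero_iff_eq_neg] at i3
    have i4 : s ∣ q ^ i + 1 := (ZMod.natCast_eq_zero_iff _ _).1 (by exact_mod_cast i3)
    refine un_odd hF ?_ e i4
    by_contra c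
    obtain rfl : i = 1 := by obtain ⟨k, hk⟩ := e; omega
    exact h1 ((pow_one q ▸ i4 : s ∣ q + 1).trans (un_succ q))

theorem lf_PSU (hF : Fintype.card F = q ^ 2) (hn : 4 ≤ n) : Lf (PSU n F q) := by
  obtain ⟨p, hp'⟩ := CharP.exists F
  have hp := CharP.char_is_prime F p
  have := Fact.mk hp
  obtain ⟨f, hf, hq⟩ := UL.root_eq_pow hp two_ne_zero hF
  obtain ⟨φ, -, hc, hd⟩ := S2603.result hf hq hF (n := n) (by omega) (by omega)
  have hk : commutator (Out (PSU n F q)) ≤ φ.ker := Abelianization.commutator_subset_ker φ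
  refine ⟨(big_PSU hF hn Nat.prime_two (dvd_of_small (.inl rfl))).fb,
    fc_of_exp (m := Nat.gcd n (q + 1)) (fun y hy => ?_) fun r hr _ h => ?_,
    cen_of_cyc (d := n) φ.ker hk hc (hd ▸ Nat.gcd_le_left _ (by omega)) fun s hs h => ?_⟩
  · exact orderOf_dvd_iff_pow_eq_one.1 (hd ▸ Subgroup.orderOf_dvd_natCard _ (hk hy))
  · have h1 := h.trans (Nat.gcd_dvd_right _ _)
    exact ⟨h1.trans (fldU_succ_dvd hF (by omega)),
      fun s hs a b => .inl (big_PSU hF hn hr (h1.trans (un_succ q)) s hs a b)⟩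
  by_cases h1 : s ∣ q * (q ^ 2 - 1)
  · obtain ⟨x, -, -, hx, -⟩ := (adjZ_SU_sm hF hn hs hs h1 h1).quot hs hs
    exact hx ▸ orderOf_dvd_natCard x
  have hq1 : 1 ≤ q := Nat.pos_of_ne_zero fun e => h1 (by simp [e])
  have h2 : s ≠ 2 := fun e => h1 (dvd_of_small (.inl e))
  have h3 : ¬ s ∣ q := fun e => h1 (e.mul_right _)
  have h4 := hs.two_le
  have h5 := dvd_card_SU hF (A := n) (by omega) hs (.inr ⟨s - 1, by omega, by omega,
    hs.even_sub_one h2, (num_sub (Nat.one_le_pow _ _ hq1)).2 (by exact_mod_cast num_unit hs h3)⟩)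
  rw [Subgroup.card_eq_card_quotient_mul_card_subgroup (Subgroup.center (SU n F q)),
    S0279.result hF n (by omega)] at h5
  exact (hs.dvd_mul.1 h5).resolve_right fun c => h1 ((c.trans (Nat.gcd_dvd_right _ _)).trans (un_succ q))

end Cfsg.Agent.ARS
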