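import Cfsg.Agent.ARS.CyA
import Cfsg.Agent.S1324
import Cfsg.Agent.S0204

/-!
# S4185: the group theoretic part
-/

set_option autoImplicit false
set_option linter.unusedSectionVars false

namespace Cfsg.Agent.ARS

open Cfsg Cfsg.Agent.NPQ Subgroup

variable {A : Type*} [Group A] [Finite A] {r s : ℕ}

/-- `r`-rank at least two -/
def Rk (A : Type*) [Group A] (r : ℕ) : Prop :=
  ∃ E : Subgroup A, IsElementaryAbelian r E ∧ r ^ 2 ≤ Nat.card E

theorem rk_of_not_cy (hr : r.Prime) (h2 : r ≠ 2) (h : ¬ Cy A r) : Rk A r := by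
  obtain ⟨x, y, hc, hx, hy, hxy⟩ := exists_pair hr h2 h
  have := Fact.mk hr
  have hE : IsMulCommutative (closure {x, y} : Subgroup A) := by
    refine isMulCommutative_closure ?_
    rintro a (rfl | rfl) b (rfl | rfl)
    exacts [rfl, hc, hc.symm, rfl]
  have hp : ∀ a ∈ (closure {x, y} : Subgroup A), a ^ r = 1 := fun a ha => by
    induction ha using closure_induction with
    | mem a ha => rcases ha with rfl | rfl; exacts [hx ▸ pow_orderOf_eq_one _, hy ▸ pow_orderOf_eq_one _]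
    | one => exact one_pow _
    | mul a b ha hb h1 h3 =>
      rw [Commute.mul_pow (congrArg Subtype.val (hE.1.1 ⟨a, ha⟩ ⟨b, hb⟩)), h1, h3, one_mul]
    | inv a _ h1 => rw [inv_pow, h1, inv_one]
  refine ⟨_, ⟨hE, hp⟩, ?_⟩
  obtain ⟨n, hn⟩ := IsPGroup.iff_card.1 (show IsPGroup r (closure {x, y} : Subgroup A) from
    fun g => ⟨1, Subtype.ext (by simpa using hp g.1 g.2)⟩)
  have h1 : zpowers x < closure {x, y} :=
    ⟨zpowers_le.2 (subset_closure (by simp)), fun k => hxy (k (subset_closure (by simp)))⟩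
  have h3 : Nat.card (zpowers x) < Nat.card (closure {x, y} : Subgroup A) :=
    lt_of_le_of_ne (card_le_of_le h1.le) fun e => h1.ne (eq_of_le_of_card_ge h1.le e.ge)
  rw [Nat.card_zpowers, hx, hn] at h3
  rw [hn]
  refine Nat.pow_le_pow_right hr.pos ?_
  by_contra! k
  interval_cases n
  · simp at h3; exact hr.ne_zero h3
  · simp at h3

theorem Rk.map {B : Type*} [Group B] (h : Rk A r) (f : A →* B) (hf : Function.Injective f) : Rk B r := by
  obtain ⟨E, ⟨h1, h2⟩, h3⟩ := h
  refine ⟨E.map f, ⟨inferInstance, ?_⟩, by rwa [card_map_of_injective hf]⟩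
  rintro _ ⟨a, ha, rfl⟩
  rw [← map_pow, h2 a ha, map_one]

theorem adj_of_comm {a x : A} (hc : Commute a x) (h : r ∣ orderOf a) (hx : orderOf x = s) :
    Adj A r s :=
  ⟨a ^ (orderOf a / r), x, hc.pow_left _, orderOf_pow_orderOf_div (orderOf_pos a).ne' h, hx⟩

/-- coprime action of a non-cyclic elementary abelian group -/
theorem adj_of_act (hr : r.Prime) (hs : s.Prime) (hrs : s ≠ r) {E P : Subgroup A}
    (hE : IsElementaryAbelian r E) (h2 : r ^ 2 ≤ Nat.card E) (hP : IsPGroup s P) (h0 : P ≠ ⊥)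
    (hn : E ≤ normalizer (P : Set A)) : Adj A r s := by
  have := Fact.mk hr
  have := Fact.mk hs
  obtain ⟨n, hn'⟩ := IsPGroup.iff_card.1 hP
  have h := S1324.result r E P hE h2 (fun k => hrs
    ((Nat.prime_dvd_prime_iff_eq hr hs).1 (hr.dvd_of_dvd_pow (hn' ▸ k))).symm) hn
  by_contra hc
  refine h0 (h.trans (iSup_eq_bot.2 fun ⟨B, h3, h4⟩ => eq_bot_iff.2 fun z hz => by_contra fun hz1 => ?_))
  have hB : B ≠ ⊥ := by
    rintro rfl
    rw [relIndex_bot_left] at h4
    nlinarith [hr.two_le]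
  obtain ⟨⟨b, hb⟩, hb1⟩ := ne_bot_iff_exists_ne_one.1 hB
  obtain ⟨k, hk⟩ := hP ⟨z, hz.1⟩
  exact hc (adj_of_pel hr hs (hz.2 b hb) ⟨1, by simpa using hE.2 b (h3 hb)⟩
    ⟨k, congrArg Subtype.val hk⟩ (fun e => hb1 (Subtype.ext e)) hz1)

theorem exists_lift {B : Type*} [Group B] (hr : r.Prime) (f : A →* B) (hf : Function.Surjective f)
    {E : Subgroup B} (hE : IsPGroup r E) : ∃ R : Subgroup A, IsPGroup r R ∧ R.map f = E := by
  have := Fact.mk hr
  obtain ⟨P⟩ : Nonempty (Sylow r (E.comap f)) := inferInstance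
  have hs := f.subgroupComap_surjective_of_surjective E hf
  have h1 : (P : Subgroup (E.comap f)).map (f.subgroupComap E) = ⊤ :=
    ((P.mapSurjective hs).3 (hE.to_subgroup ⊤) le_top).symm
  refine ⟨(P : Subgroup (E.comap f)).map (E.comap f).subtype, P.2.map _, le_antisymm ?_ fun e he => ?_⟩
  · rintro _ ⟨_, ⟨x, -, rfl⟩, rfl⟩
    exact x.2
  · obtain ⟨x, hx, e1⟩ := h1.ge (mem_top (⟨e, he⟩ : E))
    exact ⟨x, ⟨x, hx, rfl⟩, congrArg Subtype.val e1⟩

theorem Rk.lift {B : Type*} [Group B] (h : Rk B r) (hr : r.Prime) (f : A →* B)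
    (hf : Function.Surjective f) (hk : ¬ r ∣ Nat.card f.ker) : Rk A r := by
  have := Fact.mk hr
  obtain ⟨E, ⟨h1, h2⟩, h3⟩ := h
  obtain ⟨R, h4, rfl⟩ := exists_lift hr f hf (E := E)
    fun g => ⟨1, Subtype.ext (by simpa using h2 g.1 g.2)⟩
  have h5 : ∀ a ∈ R, f a = 1 → a = 1 := fun a ha e => by
    obtain ⟨k, hk'⟩ := h4 ⟨a, ha⟩
    obtain ⟨i, -, hi⟩ := (Nat.dvd_prime_pow hr).1 (orderOf_dvd_of_pow_eq_one (congrArg Subtype.val hk'))
    rcases i with _ | i
    · simpa using hi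
    · exact absurd ((hi ▸ dvd_pow_self r i.succ_ne_zero : r ∣ orderOf a).trans
        (f.ker.orderOf_dvd_natCard e)) hk
  refine ⟨R, ⟨⟨⟨fun a b => Subtype.ext (mul_inv_eq_one.1 (h5 _ (a * b * (b * a)⁻¹).2 ?_))⟩⟩,
    fun a ha => h5 _ (R.pow_mem ha r) ?_⟩, h3.trans ?_⟩
  · have := congrArg Subtype.val (h1.1.1 ⟨f a, a, a.2, rfl⟩ ⟨f b, b, b.2, rfl⟩)
    simp only [coe_mul] at this
    simp only [coe_mul, map_mul, map_inv, this, mul_inv_cancel]
  · rw [map_pow]; exact h2 _ ⟨a, ha, rfl⟩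
  · exact Nat.le_of_dvd Nat.card_pos (card_map_dvd R f)

open scoped IsMulCommutative in
theorem two_not_dvd {Y : Type*} [Group Y] [Finite Y] (h : Cy Y 2) : ¬ 2 ∣ Nat.card (commutator Y) := by
  intro h2
  obtain ⟨P⟩ : Nonempty (Sylow 2 Y) := inferInstance
  have h3 : (Nat.card Y).minFac = 2 :=
    (Nat.minFac_eq_two_iff _).2 (h2.trans (card_subgroup_dvd_card _))
  have hP := (h P P.2).normalizer_le_centralizer h3
  refine P.not_dvd_index (h2.trans ?_)
  have := h P P.2
  rw [(MonoidHom.ker_transferSylow_isComplement' P hP).index_eq_card]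
  exact card_dvd_of_le (Abelianization.commutator_subset_ker _)

open scoped IsMulCommutative in
/-- the choice of `r` -/
theorem exists_prime {Y : Type*} [Group Y] [Finite Y] (h : ¬ IsCyclic Y) : ∃ r : ℕ, r.Prime ∧
    (¬ Cy Y r ∨ r ≠ 2 ∧ ∃ y ∈ commutator Y, orderOf y = r) := by
  by_cases h1 : ∃ r : ℕ, r.Prime ∧ ¬ Cy Y r
  · exact h1.imp fun r hr => ⟨hr.1, .inl hr.2⟩
  push Not at h1
  have : IsZGroup Y := ⟨fun p hp P => h1 p hp P P.2⟩
  have h2 : Nat.card (commutator Y) ≠ 1 := fun e => h (by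
    have := (commutator_eq_bot_iff Y).1 (card_eq_one.1 e)
    infer_instance)
  obtain ⟨r, hr, h3⟩ := Nat.exists_prime_and_dvd h2
  have := Fact.mk hr
  obtain ⟨y, hy⟩ := exists_prime_orderOf_dvd_card' r h3
  exact ⟨r, hr, .inr ⟨fun e => two_not_dvd (h1 2 Nat.prime_two) (e ▸ h3), y, y.2,
    (orderOf_coe y).trans hy⟩⟩

section Almost

variable (S : Subgroup A) [S.Normal]

/-- the outer automorphism induced by an element -/
def outH : A →* Out S := (QuotientGroup.mk' (Inn S)).comp MulAut.conjNormal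

variable {S}

theorem outH_of_mem {a : A} (h : a ∈ S) : outH S a = 1 :=
  (QuotientGroup.eq_one_iff _).2 ⟨⟨a, h⟩, by ext x; simp⟩

theorem ker_outH (hC : centralizer (S : Set A) = ⊥) : (outH S).ker = S := by
  refine le_antisymm (fun a ha => ?_) fun a => outH_of_mem
  obtain ⟨c, hc⟩ := (QuotientGroup.eq_one_iff _).1 ha
  have : (c : A)⁻¹ * a ∈ centralizer (S : Set A) := fun x hx => by
    have e := congrArg Subtype.val (DFunLike.congr_fun hc ⟨x, hx⟩)
    simp only [MulAut.conj_apply, coe_mul, coe_inv, MulAut.conjNormal_apply] at e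
    calc x * ((c : A)⁻¹ * a) = (c : A)⁻¹ * (c * x * (c : A)⁻¹) * a := by group
      _ = _ := by rw [e]; group
  rw [hC, mem_bot, inv_mul_eq_one] at this
  exact this ▸ c.2

theorem adj_of_fixO {y : Out S} (hy : y ∈ (outH S).range) (hr : r ∣ orderOf y) (h : FixO S y s) :
    Adj A r s := by
  obtain ⟨θ, h1, x, h2, h3⟩ := h
  obtain ⟨a, rfl⟩ := hy
  obtain ⟨c, hc⟩ := QuotientGroup.eq.1 (show ((MulAut.conjNormal a : MulAut S) : Out S) = θ from h1.symm)
  refine adj_of_comm (a := a * c) (x := x) ?_ (hr.trans ?_) ((orderOf_coe x).trans h2)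
  · rw [eq_inv_mul_iff_mul_eq] at hc
    have e := congrArg Subtype.val h3
    rw [← hc] at e
    simp only [MulAut.mul_apply, MulAut.conj_apply, coe_mul, coe_inv, MulAut.conjNormal_apply] at e
    calc a * c * x = a * (c * x * (c : A)⁻¹) * a⁻¹ * (a * c) := by group
      _ = _ := by rw [e]
  · have := orderOf_map_dvd (outH S) (a * c)
    rwa [map_mul, outH_of_mem c.2, mul_one] at this

/-- primes not dividing `|S|` -/
theorem adj_out (hC : centralizer (S : Set A) = ⊥) (hL : Cen S) (hr : r.Prime) (hs : s.Prime)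
    (hrs : s ≠ r) (h1 : r ∣ Nat.card (outH S).range) (h2 : s ∣ Nat.card A) (h3 : ¬ s ∣ Nat.card S) :
    Adj A r s := by
  have := Fact.mk hr
  have := Fact.mk hs
  rw [← S.index_mul_card, hs.dvd_mul, or_iff_left h3, ← ker_outH hC, index_ker] at h2
  obtain ⟨⟨y, a, rfl⟩, hy⟩ := exists_prime_orderOf_dvd_card' s h2
  obtain ⟨⟨z, b, rfl⟩, hz⟩ := exists_prime_orderOf_dvd_card' r h1
  rw [← orderOf_coe] at hy hz
  have hc : Commute (outH S b) (outH S a) := mem_center_iff.1 (hL s hs h3 _ hy) _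
  have h4 := orderOf_map_dvd (outH S) (b * a)
  rw [map_mul, hc.orderOf_mul_eq_mul_orderOf_of_coprime
    (by rw [hy, hz]; exact (Nat.coprime_primes hr hs).2 hrs.symm), hy, hz] at h4
  exact adj_of_orderOf _ ((dvd_mul_right r s).trans h4) ((dvd_mul_left s r).trans h4)

/-- the Frattini argument -/
theorem exists_frattini (hs : s.Prime) (h : s ∣ Nat.card S) : ∃ P : Subgroup A, P ≤ S ∧ IsPGroup s P ∧
    P ≠ ⊥ ∧ Function.Surjective ((outH S).rangeRestrict.comp (normalizer (P : Set A)).subtype) := by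
  have := Fact.mk hs
  obtain ⟨P⟩ : Nonempty (Sylow s S) := inferInstance
  refine ⟨(P : Subgroup S).map S.subtype, map_subtype_le _, P.2.map _,
    fun e => P.ne_bot_of_dvd_card h ((map_eq_bot_iff_of_injective _ S.subtype_injective).1 e), ?_⟩
  rintro ⟨_, a, rfl⟩
  obtain ⟨n, hn, c, hc, rfl⟩ := mem_sup_of_normal_right.1 (P.normalizer_sup_eq_top.ge (mem_top a))
  exact ⟨⟨n, hn⟩, Subtype.ext (show outH S n = outH S (n * c) by rw [map_mul, outH_of_mem hc, mul_one])⟩

theorem not_dvd_ker (hr : r.Prime) (hs : s.Prime) {P : Subgroup A} (hP : IsPGroup s P) (h0 : P ≠ ⊥)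
    (h : ¬ Adj A r s) : ¬ r ∣ Nat.card P.normalizerMonoidHom.ker := fun k => by
  have := Fact.mk hr
  obtain ⟨⟨a, ha⟩, ho⟩ := exists_prime_orderOf_dvd_card' r k
  rw [← orderOf_coe, ← orderOf_coe] at ho
  obtain ⟨z, hz⟩ := ne_bot_iff_exists_ne_one.1 h0
  obtain ⟨i, hi⟩ := hP z
  rw [normalizerMonoidHom_ker] at ha
  exact h (adj_of_pel hr hs (x := a) (y := z) (ha z z.2).symm ⟨1, by simpa using ho ▸ pow_orderOf_eq_one _⟩
    ⟨i, congrArg Subtype.val hi⟩ (fun e => hr.ne_one (by rw [← ho, e, orderOf_one]))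
    fun e => hz (Subtype.ext e))

theorem cyc_of_cy {P : Subgroup A} (h : Cy S s) (h1 : P ≤ S) (hP : IsPGroup s P) : IsCyclic P :=
  have := h (P.subgroupOf S) (hP.of_equiv (subgroupOfEquivOfLe h1).symm)
  isCyclic_of_surjective _ (subgroupOfEquivOfLe h1).surjective

/-- non-cyclic Sylow subgroups of the quotient -/
theorem adj_nc (hL : FB S) (hr : r.Prime) (hs : s.Prime) (hrs : s ≠ r)
    (h1 : ¬ Cy (outH S).range r) (h2 : s ∣ Nat.card S) : Adj A r s := by
  obtain ⟨P, h3, h4, h5, h6⟩ := exists_frattini hs h2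
  have h7 : ¬ Cy (normalizer (P : Set A)) r := fun k => h1 (k.of_surj hr _ h6)
  by_cases h8 : r = 2
  · subst h8
    by_cases h9 : Cy S s
    · by_contra k
      have := Fact.mk hs
      have := cyc_of_cy h9 h3 h4
      obtain ⟨n, hn⟩ := IsPGroup.iff_card.1 h4
      have : IsCyclic (ZMod (Nat.card P))ˣ := hn ▸ ZMod.isCyclic_units_of_prime_pow s hs hrs n
      have : IsCyclic (MulAut P) :=
        isCyclic_of_surjective _ (IsCyclic.mulAutMulEquiv P).symm.surjective
      exact h7 (cy_of_proj hr _ (not_dvd_ker hr hs h4 h5 k))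
    rcases hL s hs hrs h9 with k | k
    · exact k.map _ S.subtype_injective
    simp only [Cy, not_forall] at h1
    obtain ⟨Y, k1, k2⟩ := h1
    obtain ⟨y, k3, k4, k5⟩ := k (Y.map (outH S).range.subtype) (k1.map _) fun c => k2
      (isCyclic_of_surjective _ (Y.equivMapOfInjective _ (subtype_injective _)).symm.surjective)
    obtain ⟨i, hi⟩ := k1.map (outH S).range.subtype ⟨y, k3⟩
    obtain ⟨j, -, hj⟩ := (Nat.dvd_prime_pow hr).1 (orderOf_dvd_of_pow_eq_one (congrArg Subtype.val hi))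
    refine adj_of_fixO (map_subtype_le _ k3) ?_ k5
    rcases j with _ | j
    · exact absurd (orderOf_eq_one_iff.1 hj) k4
    · exact hj ▸ dvd_pow_self 2 j.succ_ne_zero
  · obtain ⟨E, ⟨k1, k2⟩, k3⟩ := rk_of_not_cy hr h8 h7
    refine adj_of_act hr hs hrs (E := E.map (Subgroup.subtype _)) ⟨inferInstance, ?_⟩
      (by rwa [card_map_of_injective (subtype_injective _)]) h4 h5 (map_subtype_le _)
    rintro _ ⟨a, ha, rfl⟩
    rw [← map_pow, k2 a ha, map_one]

theorem mem_comm {y : (outH S).range} (h : y ∈ commutator (outH S).range) :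
    (y : Out S) ∈ commutator (Out S) := by
  have : (commutator (outH S).range).map (Subgroup.subtype _) ≤ commutator (Out S) := by
    rw [map_subtype_commutator]
    exact commutator_mono le_top le_top
  exact this ⟨y, h, rfl⟩

open scoped IsMulCommutative in
/-- primes dividing the order of the derived group of the quotient -/
theorem adj_comm (hL : FC S) (hr : r.Prime) (hs : s.Prime) (hrs : s ≠ r) (h0 : r ≠ 2)
    {y : (outH S).range} (h1 : y ∈ commutator (outH S).range) (hy : orderOf y = r)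
    (h2 : s ∣ Nat.card S) : Adj A r s := by
  by_cases h9 : Cy S s
  · obtain ⟨P, h3, h4, h5, h6⟩ := exists_frattini hs h2
    by_contra k
    have := cyc_of_cy h9 h3 h4
    have : IsMulCommutative (MulAut P) := ⟨⟨fun a b => (IsCyclic.mulAutMulEquiv P).injective (by
      rw [map_mul, map_mul, mul_comm])⟩⟩
    refine not_dvd_ker hr hs h4 h5 k (Dvd.dvd.trans ?_
      (card_dvd_of_le (Abelianization.commutator_subset_ker _)))
    rw [commutator_def, ← map_top_of_surjective _ h6, ← map_commutator] at h1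
    exact (hy ▸ orderOf_dvd_natCard _ h1).trans (card_map_dvd _ _)
  rcases (hL r hr h0 y (mem_comm h1) ((orderOf_coe y).trans hy)).2 s hs hrs h9 with k | k
  · exact k.map _ S.subtype_injective
  · exact adj_of_fixO y.2 ((orderOf_coe y).trans hy).symm.dvd k

open scoped IsMulCommutative in
theorem not_cy_of_perfect (hS : commutator S = ⊤) (hr : r.Prime) (h1 : r ∣ Nat.card S)
    {y : Out S} (h2 : y ∈ (outH S).range) (hy : orderOf y = r) : ¬ Cy A r := fun h => by
  have := Fact.mk hr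
  let L := (zpowers y).comap (outH S)
  obtain ⟨P⟩ : Nonempty (Sylow r L) := inferInstance
  have := h.of_inj _ L.subtype_injective P P.2
  have hSL : S ≤ L := fun a ha => by simp [L, outH_of_mem ha]
  refine P.not_dvd_card_commutator_or_not_dvd_index_commutator.elim (fun k => k ?_) fun k => k ?_
  · rw [← card_map_of_injective L.subtype_injective, map_subtype_commutator]
    refine h1.trans (card_dvd_of_le (le_trans ?_ (commutator_mono hSL hSL)))
    rw [← map_subtype_commutator, hS, ← MonoidHom.range_eq_map, range_subtype]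
  · refine Dvd.dvd.trans ?_ (index_dvd_of_le
      (Abelianization.commutator_subset_ker ((outH S).subgroupComap (zpowers y))))
    rw [index_ker, MonoidHom.range_eq_top.2, card_top, Nat.card_zpowers, hy]
    rintro ⟨_, i, rfl⟩
    obtain ⟨a, rfl⟩ := h2
    exact ⟨⟨a ^ i, i, (map_zpow _ _ _).symm⟩, Subtype.ext (map_zpow _ _ _)⟩

/-- The almost simple case. -/
theorem core [IsSimpleGroup S] (hC : centralizer (S : Set A) = ⊥) (hL : Lf S)
    (h : ¬ IsCyclic (A ⧸ S)) : ∃ r : ℕ, r.Prime ∧ r ∣ S.index ∧ Rk A r ∧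
      ∀ s : ℕ, s.Prime → s ∣ Nat.card A → s ≠ r → Adj A r s := by
  have h1 : ¬ IsCyclic (outH S).range := fun _ => h (isCyclic_of_surjective _
    ((QuotientGroup.quotientKerEquivRange (outH S)).symm.trans
      (QuotientGroup.quotientMulEquivOfEq (ker_outH hC))).surjective)
  have h2 : ¬ IsMulCommutative S := fun c => by
    have : S ≤ ⊥ := hC ▸ S.le_centralizer
    exact ((nontrivial_iff_ne_bot S).1 inferInstance) (le_bot_iff.1 this)
  have h3 : commutator S = ⊤ := (Normal.eq_bot_or_eq_top inferInstance).resolve_left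
    fun e => h2 ((commutator_eq_bot_iff _).1 e)
  obtain ⟨r, hr, h4⟩ := exists_prime h1
  have h5 : r ∣ Nat.card (outH S).range := by
    rcases h4 with k | ⟨-, y, -, k⟩
    exacts [by_contra fun c => k (cy_of_not_dvd hr c), k ▸ orderOf_dvd_natCard y]
  refine ⟨r, hr, by rwa [← ker_outH hC, index_ker], ?_, fun s hs h6 hrs => ?_⟩
  · by_cases h7 : r = 2
    · subst h7
      obtain ⟨E, hE⟩ := S0204.result (G := S) fun _ => h2 inferInstance
      refine Rk.map ⟨E, ⟨⟨⟨fun a b => IsKleinFour.isMulCommutative.1.1 a b⟩⟩, fun a ha => ?_⟩,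
        hE.card_four.ge⟩ _ S.subtype_injective
      exact congrArg Subtype.val (hE.exponent_two ▸ Monoid.pow_exponent_eq_one (⟨a, ha⟩ : E))
    refine rk_of_not_cy hr h7 ?_
    rcases h4 with k | ⟨-, y, k1, k2⟩
    · exact fun c => k (c.of_surj hr _ (outH S).rangeRestrict_surjective)
    · have k3 := (orderOf_coe y).trans k2
      exact not_cy_of_perfect h3 hr (hL.fc r hr h7 y (mem_comm k1) k3).1 y.2 k3
  by_cases h7 : s ∣ Nat.card S
  · rcases h4 with k | ⟨k0, y, k1, k2⟩
    exacts [adj_nc hL.fb hr hs hrs k h7, adj_comm hL.fc hr hs hrs k0 k1 k2 h7]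
  · exact adj_out hC hL.cen hr hs hrs h5 h6 h7

end Almost

end Cfsg.Agent.ARS
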