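import Cfsg.Agent.ARS.OutA
import Cfsg.Agent.ARS.GL2
import Cfsg.Agent.NPQ.FldL

/-!
S4185: `L₂(q)`, `q = p^f ≥ 4`.  `lf_of_comm`: `comm_of_proj` with S2602.  `FB`: for `s ∤ q` odd, `cy_SL2` and
`Cy.quot` contradict `¬ Cy`.  For `s = p` odd: `out2_of_field` with the field automorphisms and `m = 2`
exactly as in `fldAll_PSL` (NPQ/FldL: `fld`, non-inner, `|Out| = gcd(2,q-1) f`); every field automorphism
fixes the image of `!![1,1;0,1]`, which has order `p` (`eq_psiL_iff`, or the fixed subgroup of the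
template has order divisible by `p`, `fld_fix`).
-/

set_option autoImplicit false
set_option linter.unusedSectionVars false

namespace Cfsg.Agent.ARS

open Cfsg Cfsg.Agent.NPQ Matrix

open Cfsg.Agent.K KSG KSG.Graph in
theorem lf_PSL2 {F : Type} [Field F] [Fintype F] (h : 4 ≤ Fintype.card F) :
    Lf (ProjectiveSpecialLinearGroup (Fin 2) F) := by
  obtain ⟨p, hp'⟩ := CharP.exists F
  have hp := CharP.char_is_prime F p
  have := Fact.mk hp
  obtain ⟨f, hf, hF⟩ := UL.card_eq_pow F p hp
  obtain ⟨π, h4, -, h5⟩ := S2602.result hf hF (hF ▸ h)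
  refine lf_of_comm (comm_of_proj π (h5 ▸ Nat.gcd_dvd_left _ _)) fun s hs s2 hc => .inr ?_
  have hq : s ∣ Fintype.card F := by
    by_contra c
    exact hc ((cy_SL2 hs s2 c).quot hs)
  refine out2_of_field ((psiL (Fin 2) F).comp (SemidirectProduct.inr.comp (MonoidHom.inl _ _)))
    (fun σ h => ?_) (m := 2) ?_ (by decide) fun σ ho => fld_fix hs ?_
  · obtain ⟨π, h4, -, h5⟩ := exists_projL2 (F := F)
    exact (h4 _).symm.trans (h5.ge (inn_le_range_iotaL h))
  · rw [(card_ringAut F hF).1, card_eq_of_proj h4, h5, Nat.card_congr Multiplicative.toAdd,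
      Nat.card_zmod, mul_comm]
    exact Nat.mul_dvd_mul_right (Nat.gcd_dvd_left _ _) _
  have hn' : 2 ≤ Fintype.card (Fin 2) := by simp
  have h6 : ∀ a : SpecialLinearGroup (Fin 2) (fixF σ),
      psiL (Fin 2) F (SemidirectProduct.inr (σ, 1))
        (QuotientGroup.mk (SpecialLinearGroup.map (fixF σ).subtype a)) =
        QuotientGroup.mk (SpecialLinearGroup.map (fixF σ).subtype a) := fun a =>
    (conj_mem_centralizer_iff (S2686.center_eq_bot le_rfl) _ _).1 (by
      rw [← psiL_toGL, show SpecialLinearGroup.toGL (SpecialLinearGroup.map (fixF σ).subtype a) =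
        GeneralLinearGroup.map (n := Fin 2) (fixF σ).subtype (SpecialLinearGroup.toGL a) from
        Units.ext rfl]
      exact (field_centralizer_L (F := F) hn' σ).1 (SpecialLinearGroup.toGL a))
  obtain ⟨-, h8⟩ := solv_of_inj (SpecialLinearGroup.map (n := Fin 2) (fixF σ).subtype)
    (fun a b h => Subtype.ext
    (Matrix.map_injective (fixF σ).subtype_injective (congrArg Subtype.val h))) h6
  have h11 := card_fixF_pow σ
  rw [ho] at h11
  rw [← Nat.card_eq_fintype_card, ← h11] at hq
  exact (FldL.num (m := 0) hs Nat.prime_two Finite.one_lt_card (.inr hq)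
    ((hq.trans (dvd_pow_self _ (by decide))).mul_right _) (FldL.ord (fixF σ) 0)).trans h8

end Cfsg.Agent.ARS
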